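import Groth.Agent.Lib.ProjQ8.Closed
import Groth.Agent.Lib.VA.Extend
import Groth.Agent.Lib.VA.Eventually
import Groth.Agent.Lib.QCoh.LocGenCases
import Groth.Agent.Lib.QCoh.FT

/-!
# Very ample modules embed into projective bundles of modules of finite type
-/

set_option autoImplicit false
set_option backward.isDefEq.respectTransparency false

universe u

open CategoryTheory CategoryTheory.Limits AlgebraicGeometry TopologicalSpace Opposite
open AlgebraicGeometry.AffineSpace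
open GrothLib.InvExt (mres fres IsGen)

noncomputable section

namespace GrothLib.QCoh.SubData

variable {X : Scheme.{u}} {F : X.Modules}

theorem rr_mem_sup (P Q : SubData F) {T T' : X.Opens} (h : T' ≤ T) {s : Γ(F, T)} (hs : s ∈ P.sec T ⊔ Q.sec T) :
    rr h s ∈ P.sec T' ⊔ Q.sec T' := by
  obtain ⟨a, ha, b, hb, rfl⟩ := Submodule.mem_sup.1 hs
  rw [map_add]
  exact Submodule.add_mem_sup (P.map_mem (homOfLE h) ha) (Q.map_mem (homOfLE h) hb)

/-- Sum of two submodules. -/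
noncomputable def join (P Q : SubData F) : SubData F where
  sec T :=
    { carrier := {s | ∀ x ∈ T, ∃ (T' : X.Opens) (h : T' ≤ T), x ∈ T' ∧ rr h s ∈ P.sec T' ⊔ Q.sec T'}
      add_mem' := fun {a b} ha hb x hx ↦ by
        obtain ⟨T₁, h₁, hx₁, m₁⟩ := ha x hx
        obtain ⟨T₂, h₂, hx₂, m₂⟩ := hb x hx
        refine ⟨T₁ ⊓ T₂, inf_le_left.trans h₁, ⟨hx₁, hx₂⟩, ?_⟩
        rw [map_add]
        refine add_mem ?_ ?_
        · rw [← rr_rr h₁ inf_le_left]; exact rr_mem_sup P Q _ m₁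
        · rw [← rr_rr h₂ inf_le_right]; exact rr_mem_sup P Q _ m₂
      zero_mem' := fun x hx ↦ ⟨T, le_rfl, hx, by rw [map_zero]; exact zero_mem _⟩
      smul_mem' := fun r s hs x hx ↦ by
        obtain ⟨T', h, hx', m⟩ := hs x hx
        exact ⟨T', h, hx', by rw [rr_smul]; exact Submodule.smul_mem _ _ m⟩ }
  map_mem {U W} i s hs x hx := by
    obtain ⟨T', h, hx', m⟩ := hs x (i.le hx)
    refine ⟨T' ⊓ W, inf_le_right, ⟨hx', hx⟩, ?_⟩
    change rr _ (rr i.le s) ∈ _
    rw [rr_rr, ← rr_rr h inf_le_left]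
    exact rr_mem_sup P Q _ m
  locality {U} s h x hx := by
    obtain ⟨W, i, hxW, hW⟩ := h x hx
    obtain ⟨T', h₁, hx', m⟩ := hW x hxW
    refine ⟨T', h₁.trans i.le, hx', ?_⟩
    change rr h₁ (rr i.le s) ∈ _ at m
    rwa [rr_rr] at m

theorem mem_join_left {P Q : SubData F} {T : X.Opens} {s : Γ(F, T)} (hs : s ∈ P.sec T) : s ∈ (join P Q).sec T :=
  fun x hx ↦ ⟨T, le_rfl, hx, Submodule.mem_sup_left (by rwa [rr_self])⟩

theorem mem_join_right {P Q : SubData F} {T : X.Opens} {s : Γ(F, T)} (hs : s ∈ Q.sec T) : s ∈ (join P Q).sec T :=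
  fun x hx ↦ ⟨T, le_rfl, hx, Submodule.mem_sup_right (by rwa [rr_self])⟩

theorem LocGen.join {P Q : SubData F} (hP : LocGen P ⊤) (hQ : LocGen Q ⊤) : LocGen (P.join Q) ⊤ := by
  intro x hx
  obtain ⟨U, hU, hxU, -, S, hS, hgen⟩ := hP x hx
  obtain ⟨g, hxg, -, S', hS', hgen'⟩ := hQ.exists_basicOpen hU hxU hx
  let D := X.basicOpen g
  refine ⟨D, hU.basicOpen g, hxg, le_top, rr (X.basicOpen_le g) '' S ∪ S', (hS.image _).union hS', fun T hT ↦ ?_⟩
  have hP' : ∀ T' ≤ D, P.sec T' = (gen (rr (X.basicOpen_le g) '' S)).sec T' := fun T' hT' ↦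
    (hgen T' (hT'.trans (X.basicOpen_le g))).trans (gen_image_rr _ S hT').symm
  ext s
  constructor
  · intro hs y hy hyD
    obtain ⟨T', h, hy', m⟩ := hs y hy
    obtain ⟨a, ha, b, hb, hab⟩ := Submodule.mem_sup.1 m
    rw [hP' _ (h.trans hT)] at ha
    rw [hgen' _ (h.trans hT)] at hb
    obtain ⟨T₁, h₁, h₁', hy₁, m₁⟩ := ha y hy' (hT (h hy'))
    obtain ⟨T₂, h₂, h₂', hy₂, m₂⟩ := hb y hy' (hT (h hy'))
    refine ⟨T₁ ⊓ T₂, (inf_le_left.trans h₁).trans h, inf_le_left.trans h₁', ⟨hy₁, hy₂⟩, ?_⟩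
    rw [← rr_rr h (inf_le_left.trans h₁), ← hab, map_add]
    refine add_mem (Submodule.span_mono (Set.image_mono Set.subset_union_left) ?_)
      (Submodule.span_mono (Set.image_mono Set.subset_union_right) ?_)
    · rw [← rr_rr h₁ inf_le_left]; exact rr_mem_span' h₁' inf_le_left m₁
    · rw [← rr_rr h₂ inf_le_right]; exact rr_mem_span' h₂' inf_le_right m₂
  · intro hs y hy
    obtain ⟨T', h, h', hy', m⟩ := hs y hy (hT hy)
    refine ⟨T', h, hy', ?_⟩
    rw [Set.image_union, Submodule.span_union] at m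
    have h1 : Submodule.span Γ(X, T') (rr h' '' (rr (X.basicOpen_le g) '' S)) ≤ P.sec T' := fun a ha ↦ by
      rw [hP' T' h']; exact mem_gen_of_mem_span h' ha
    have h2 : Submodule.span Γ(X, T') (rr h' '' S') ≤ Q.sec T' := fun b hb ↦ by
      rw [hgen' T' h']; exact mem_gen_of_mem_span h' hb
    exact sup_le_sup h1 h2 m

theorem exists_locGen_mem [CompactSpace X] [QuasiSeparatedSpace X] [F.IsQuasicoherent] {U : X.Opens}
    (hU : IsAffineOpen U) {S : Set Γ(F, U)} (hS : S.Finite) :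
    ∃ Q : SubData F, LocGen Q ⊤ ∧ S ⊆ Q.sec U := by
  obtain ⟨ι, _, V, hVA, -, hcov⟩ := exists_finite_affine_cover (U := (⊤ : X.Opens)) (by simpa using isCompact_univ)
  let e := Fintype.equivFin ι
  have hP : LocGen (gen (F := F) S) U := fun x hx ↦ ⟨U, hU, hx, le_rfl, S, hS, fun _ _ ↦ rfl⟩
  obtain ⟨Q, hQ, hQU⟩ := hP.exists_extension (fun l ↦ V (e.symm l)) (fun l ↦ hVA _) U (by
      refine eq_top_iff.2 (hcov.trans (le_sup_of_le_right (iSup_le fun j ↦ ?_)))
      exact le_iSup_of_le (f := fun l ↦ V (e.symm l)) (e j) (by simp))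
    fun l ↦ by
      rw [inf_sup_left, inf_iSup_eq, Opens.coe_sup, Opens.coe_iSup]
      exact (QuasiSeparatedSpace.inter_isCompact _ _ (V _).isOpen (hVA _).isCompact U.isOpen hU.isCompact).union
        (isCompact_iUnion fun m ↦ QuasiSeparatedSpace.inter_isCompact _ _ (V _).isOpen
          (hVA _).isCompact (V _).isOpen (hVA _).isCompact)
  refine ⟨Q, hQ, fun s hs ↦ ?_⟩
  rw [SetLike.mem_coe, hQU U le_rfl]
  exact mem_gen_of_mem_span le_rfl (Submodule.subset_span ⟨s, hs, rr_self _ s⟩)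

/-- Finitely many finite families of sections lie in one submodule of finite type. -/
theorem exists_locGen_forall_mem [CompactSpace X] [QuasiSeparatedSpace X] [F.IsQuasicoherent] {κ : Type*}
    (s : Finset κ) (U : κ → X.Opens) (hU : ∀ k, IsAffineOpen (U k)) (S : ∀ k, Set Γ(F, U k))
    (hS : ∀ k, (S k).Finite) : ∃ Q : SubData F, LocGen Q ⊤ ∧ ∀ k ∈ s, S k ⊆ Q.sec (U k) := by
  classical
  induction s using Finset.induction with
  | empty =>
    refine ⟨gen (∅ : Set Γ(F, (⊤ : X.Opens))), fun x hx ↦ ?_, fun k hk ↦ absurd hk (Finset.notMem_empty k)⟩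
    obtain ⟨V, hV, hxV, -⟩ := exists_isAffineOpen_mem_and_subset hx
    exact ⟨V, hV, hxV, le_top, rr le_top '' ∅, Set.finite_empty.image _, fun T hT ↦ (gen_image_rr le_top ∅ hT).symm⟩
  | insert a s ha ih =>
    obtain ⟨Q, hQ, hQs⟩ := ih
    obtain ⟨Q', hQ', hQa⟩ := exists_locGen_mem (hU a) (hS a)
    refine ⟨Q.join Q', hQ.join hQ', fun k hk t ht ↦ ?_⟩
    rcases Finset.mem_insert.1 hk with rfl | hk
    · exact mem_join_right (hQa ht)
    · exact mem_join_left (hQs k hk ht)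

end GrothLib.QCoh.SubData

namespace GrothLib.VA

variable {X Y : Scheme.{u}}

/-- The degree one part of the symmetric algebra of a module of finite type is of finite type. -/
theorem isFTDeg_one_of_isGrSymAlg {E : Y.Modules} (hE : Coh.IsQCoh E) (hft : CohB1.IsFT E) {𝒮 : RelProj.QCGrAlg Y}
    {j : E ⟶ 𝒮.toModule} (hj : RelProj.IsGrSymAlg E 𝒮 j) : 𝒮.IsFTDeg 1 := by
  classical
  intro U hU
  haveI : E.IsQuasicoherent := hE
  obtain ⟨G, hG⟩ := (QCoh.moduleFinite_of_isFiniteType E hft hU).fg_top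
  letI := 𝒮.gradedRing U hU
  let A := 𝒮.presheaf.obj (op U)
  let str : Γ(Y, U) →+* A := (𝒮.str.app (op U)).hom
  let v : Γ(E, U) →+ A := (j.app U).hom
  have hv : ∀ (r : Γ(Y, U)) e, v (r • e) = str r * v e := fun r e => Scheme.Modules.Hom.app_smul j r e
  let G' := G.image v
  refine ⟨G', fun a ha => ?_, fun x hx => ?_⟩
  · obtain ⟨e, -, rfl⟩ := Finset.mem_image.mp ha
    exact hj.2 U hU e
  have hmon : ∀ a ∈ Submonoid.closure (Set.range str ∪ Set.range v),
      (∃ r, a = str r) ∨ (∃ e, a = v e) ∨ ∃ d, 2 ≤ d ∧ a ∈ 𝒮.deg U hU d := by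
    intro a ha
    induction ha using Submonoid.closure_induction with
    | mem a ha => rcases ha with ⟨r, rfl⟩ | ⟨e, rfl⟩; exacts [Or.inl ⟨r, rfl⟩, Or.inr (Or.inl ⟨e, rfl⟩)]
    | one => exact Or.inl ⟨1, (map_one str).symm⟩
    | mul a b _ _ ha hb =>
      rcases ha with ⟨r, rfl⟩ | ⟨e, rfl⟩ | ⟨d, hd, hda⟩
      · rcases hb with ⟨r', rfl⟩ | ⟨e', rfl⟩ | ⟨d', hd', hdb⟩
        · exact Or.inl ⟨r * r', (map_mul str r r').symm⟩
        · exact Or.inr (Or.inl ⟨r • e', (hv r e').symm⟩)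
        · exact Or.inr (Or.inr ⟨0 + d', by omega, SetLike.mul_mem_graded (𝒮.str_mem U hU r) hdb⟩)
      · rcases hb with ⟨r', rfl⟩ | ⟨e', rfl⟩ | ⟨d', hd', hdb⟩
        · exact Or.inr (Or.inl ⟨r' • e, (mul_comm _ _).trans (hv r' e).symm⟩)
        · exact Or.inr (Or.inr ⟨1 + 1, le_rfl, SetLike.mul_mem_graded (hj.2 U hU e) (hj.2 U hU e')⟩)
        · exact Or.inr (Or.inr ⟨1 + d', by omega, SetLike.mul_mem_graded (hj.2 U hU e) hdb⟩)
      · rcases hb with ⟨r', rfl⟩ | ⟨e', rfl⟩ | ⟨d', hd', hdb⟩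
        · exact Or.inr (Or.inr ⟨d + 0, by omega, SetLike.mul_mem_graded hda (𝒮.str_mem U hU r')⟩)
        · exact Or.inr (Or.inr ⟨d + 1, by omega, SetLike.mul_mem_graded hda (hj.2 U hU e')⟩)
        · exact Or.inr (Or.inr ⟨d + d', by omega, SetLike.mul_mem_graded hda hdb⟩)
  have key : ∀ a ∈ AddSubgroup.closure (Submonoid.closure (Set.range str ∪ Set.range v) : Set A),
      ∃ e, v e = GradedRing.proj (𝒮.deg U hU) 1 a := by
    intro a ha
    induction ha using AddSubgroup.closure_induction with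
    | mem a ha =>
      rcases hmon a ha with ⟨r, rfl⟩ | ⟨e, rfl⟩ | ⟨d, hd, hda⟩
      · exact ⟨0, (map_zero v).trans (DirectSum.decompose_of_mem_ne (𝒮.deg U hU) (𝒮.str_mem U hU r) zero_ne_one).symm⟩
      · exact ⟨e, (DirectSum.decompose_of_mem_same (𝒮.deg U hU) (hj.2 U hU e)).symm⟩
      · exact ⟨0, (map_zero v).trans (DirectSum.decompose_of_mem_ne (𝒮.deg U hU) hda (by omega)).symm⟩
    | zero => exact ⟨0, (map_zero v).trans (map_zero _).symm⟩
    | add a b _ _ ha hb =>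
      obtain ⟨e, he⟩ := ha; obtain ⟨e', he'⟩ := hb
      exact ⟨e + e', by rw [map_add, map_add, he, he']⟩
    | neg a _ ha => obtain ⟨e, he⟩ := ha; exact ⟨-e, by rw [map_neg, map_neg, he]⟩
  obtain ⟨e, he⟩ := key x (Subring.mem_closure_iff.mp ((closure_str_ev hE hj ⟨U, hU⟩).ge trivial))
  rw [GradedRing.proj_apply, DirectSum.decompose_of_mem_same (𝒮.deg U hU) hx] at he
  suffices hmem : ∃ c : A → Γ(Y, U), v e = ∑ t ∈ G', str (c t) * t by
    obtain ⟨c, hc⟩ := hmem
    exact ⟨c, he.symm.trans hc⟩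
  obtain ⟨f, -, hf⟩ := Submodule.mem_span_finset.mp (hG.ge (Submodule.mem_top (x := e)))
  refine ⟨fun t => ∑ g ∈ G.filter (fun g => v g = t), f g, ?_⟩
  rw [← hf, map_sum]
  simp only [map_sum, Finset.sum_mul]
  rw [← Finset.sum_fiberwise_of_maps_to (fun g hg => Finset.mem_image_of_mem v hg)]
  refine Finset.sum_congr rfl fun t _ => Finset.sum_congr rfl fun g hg => ?_
  rw [hv, (Finset.mem_filter.mp hg).2]

/-- A closed subscheme of the projective bundle of a module of finite type is projective. -/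
theorem isProjective_of_isClosedImmersion_bundle {E : Y.Modules} (hE : Coh.IsQCoh E) (hft : CohB1.IsFT E)
    {𝒯 : RelProj.QCGrAlg Y} {j : E ⟶ 𝒯.toModule} (hj : RelProj.IsGrSymAlg E 𝒯 j) {P : Scheme.{u}} {p : P ⟶ Y}
    {chart : ∀ (U : Y.Opens) (hU : IsAffineOpen U), ((p ⁻¹ᵁ U : P.Opens) : Scheme.{u}) ≅ Proj (𝒯.deg U hU)}
    (hP : RelProj.IsRelProj 𝒯 p chart) (i : X ⟶ P) [IsClosedImmersion i] : RelProj.IsProjective (i ≫ p) :=
  ProjQ8.isProjective_comp i hP (RelProjK.isGenDegOne_of_isGrSymAlg hE hj) (isFTDeg_one_of_isGrSymAlg hE hft hj)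

theorem exists_finset_piece (g : X ⟶ Y) [QuasiCompact g] [LocallyOfFiniteType g] {L : X.Modules}
    (hL : PicF.IsInvertible L) {E : Y.Modules} (φ : E ⟶ (Scheme.Modules.pushforward g).obj L)
    (U : Y.AffineZariskiSite) (e : Γ(E, U.1)) (hp : PieceImm g φ U e) :
    ∃ J : Finset Γ(E, U.1), ∀ {F : Y.Modules} (ψ : F ⟶ (Scheme.Modules.pushforward g).obj L) (e' : Γ(F, U.1)),
      ψ.app U.1 e' = φ.app U.1 e → (∀ b ∈ J, ∃ b', ψ.app U.1 b' = φ.app U.1 b) → PieceImm g ψ U e' := by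
  classical
  let T := Tp g φ U e
  haveI : CompactSpace T.toScheme :=
    isCompact_iff_compactSpace.mp (isCompact_genOpen hL (g.isCompact_preimage U.2.isCompact) _)
  haveI : IsAffine U.1.toScheme := U.2
  let p := g.resLE U.1 T (Tp_le g φ U e)
  let ρ : Γ(E, U.1) → Γ(T.toScheme, ⊤) := fun b => T.topIso.inv (rat g φ U e b)
  let h : RS g φ U e →+* Γ(T.toScheme, ⊤) := T.topIso.inv.hom.comp (RS g φ U e).subtype
  haveI : IsImmersion (toAff h) := hp
  have hbase : ∀ r, p.appTop (U.1.topIso.inv r) = T.topIso.inv (fres X (Tp_le g φ U e) (g.app U.1 r)) := fun r =>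
    appTop_resLE_topIso g _ r
  obtain ⟨J, hJ⟩ := exists_finset_vector p ρ h fun a =>
    map_mem_of_RS T.topIso.inv.hom _ (fun r => Subring.subset_closure (Or.inl ⟨_, hbase r⟩))
      (fun b => Subring.subset_closure (Or.inr ⟨b, rfl⟩)) a.2
  refine ⟨J, fun {F} ψ e' he hb => ?_⟩
  let R : Subring Γ(X, T) :=
    Subring.closure (Set.range (fun r => fres X (Tp_le g φ U e) (g.app U.1 r)) ∪ rat g φ U e '' ↑J)
  let R' : Subring Γ(T.toScheme, ⊤) := R.map T.topIso.inv.hom
  have hR : IsImmersion (toAff (T.topIso.inv.hom.comp R.subtype)) := by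
    haveI := hJ
    refine isImmersion_toAff_of_range_le _ _ ?_ (isImmersion_toAff_of_homOfVector p (fun j : J => ρ j) R' (fun s => ?_) fun b => ?_)
    · rintro _ ⟨⟨_, a, ha, rfl⟩, rfl⟩
      exact ⟨⟨a, ha⟩, rfl⟩
    · obtain ⟨r, rfl⟩ := (ConcreteCategory.bijective_of_isIso U.1.topIso.inv).2 s
      exact ⟨_, Subring.subset_closure (Or.inl ⟨r, rfl⟩), (hbase r).symm⟩
    · exact ⟨_, Subring.subset_closure (Or.inr ⟨b.1, b.2, rfl⟩), rfl⟩
  have hle : Tp g ψ U e' ≤ T := le_of_eq (congrArg (fun t => genOpen L (V := g ⁻¹ᵁ U.1) t) he)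
  have hgp : ∀ b b', ψ.app U.1 b' = φ.app U.1 b → gp g ψ U e' b' = mres L hle (gp g φ U e b) := fun b b' hbb => by
    simp only [gp, InvExt.mres_mres]
    rw [hbb]
  refine pieceImm_of_le hle R.subtype hR fun a => ?_
  suffices R ≤ (RS g ψ U e').comap (X.presheaf.map (homOfLE hle).op).hom from this a.2
  refine Subring.closure_le.mpr ?_
  rintro _ (⟨r, rfl⟩ | ⟨b, hbJ, rfl⟩)
  · show fres X hle (fres X _ _) ∈ RS g ψ U e'
    rw [InvExt.fres_fres]
    exact base_mem_RS g ψ U e' r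
  · obtain ⟨b', hb'⟩ := hb b hbJ
    show fres X hle (rat g φ U e b) ∈ RS g ψ U e'
    rw [← rat_restrict hle (hgp e e' he) (hgp b b' hb')]
    exact rat_mem_RS g ψ U e' b'

/-- A very ample module is pulled back from the projective bundle of a module of finite type. -/
theorem exists_lift_finiteType [CompactSpace Y] [QuasiSeparatedSpace Y] (g : X ⟶ Y) [QuasiCompact g]
    [LocallyOfFiniteType g] {L : X.Modules} (hL : PicF.IsInvertible L) (h : RelProj.IsRelVeryAmple g L) :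
    ∃ (B : Bdl Y) (φ : B.E ⟶ (Scheme.Modules.pushforward g).obj L) (r : X ⟶ B.P)
      (θ : B.O ⟶ (Scheme.Modules.pushforward r).obj L), CohB1.IsFT B.E ∧ B.IsLift g φ r θ ∧ IsImmersion r := by
  classical
  haveI := isSeparated_of_isRelVeryAmple h
  haveI : CompactSpace X := QuasiCompact.compactSpace_of_compactSpace g
  haveI : L.IsQuasicoherent := InvExt.isQuasicoherent_of_isInvertible hL
  haveI := QCoh.isQuasicoherent_pushforward g L
  obtain ⟨E, φ, -, hp⟩ := isRelVeryAmple_iff.mp h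
  choose U e hx hpi using hp
  choose J hJ using fun x => exists_finset_piece g hL φ (U x) (e x) (hpi x)
  obtain ⟨s, hs⟩ := isCompact_univ.elim_finite_subcover (fun x => (Tp g φ (U x) (e x) : Set X))
    (fun x => (Tp g φ (U x) (e x)).2) (fun x _ => Set.mem_iUnion.mpr ⟨x, hx x⟩)
  obtain ⟨Q, hQ, hQs⟩ := QCoh.SubData.exists_locGen_forall_mem (F := (Scheme.Modules.pushforward g).obj L) s
    (fun x => (U x).1) (fun x => (U x).2) (fun x => insert (φ.app (U x).1 (e x)) ((φ.app (U x).1) '' ↑(J x)))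
    fun x => ((J x).finite_toSet.image _).insert _
  obtain ⟨B, hB⟩ := exists_bdl Q.obj hQ.isQuasicoherent
  let ψ : B.E ⟶ (Scheme.Modules.pushforward g).obj L := eqToHom hB ≫ Q.ι
  have hlift : ∀ (V : Y.Opens) (t : Γ((Scheme.Modules.pushforward g).obj L, V)), t ∈ Q.sec V →
      ∃ b : Γ(B.E, V), ψ.app V b = t := fun V t ht => by
    refine ⟨(eqToHom hB.symm).app V (Q.lift t ht), ?_⟩
    show ((eqToHom hB.symm) ≫ eqToHom hB ≫ Q.ι).app V (Q.lift t ht) = t
    rw [eqToHom_trans_assoc, eqToHom_refl, Category.id_comp]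
    exact Q.ι_app_lift t ht
  have hp' : ∀ y, ∃ (V : Y.AffineZariskiSite) (b : Γ(B.E, V.1)), y ∈ Tp g ψ V b ∧ PieceImm g ψ V b := fun y => by
    obtain ⟨x, hxs, hy⟩ := Set.mem_iUnion₂.mp (hs (Set.mem_univ y))
    obtain ⟨b, hb⟩ := hlift _ _ (hQs x hxs (Set.mem_insert _ _))
    refine ⟨U x, b, ?_, hJ x ψ b hb fun c hc =>
      hlift _ _ (hQs x hxs (Set.mem_insert_of_mem _ ⟨c, hc, rfl⟩))⟩
    show y ∈ genOpen L (V := g ⁻¹ᵁ (U x).1) (ψ.app (U x).1 b)
    rw [hb]
    exact hy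
  obtain ⟨r, θ, hr⟩ := Bdl.exists_lift (B := B) (g := g) (φ := ψ) fun y => by
    obtain ⟨V, b, hy, -⟩ := hp' y
    exact ⟨V.1, V.2, b, mem_genOpen.mp hy⟩
  refine ⟨B, ψ, r, θ, ?_, hr, hr.isImmersion hp'⟩
  have := hQ.isFiniteType
  exact hB ▸ this

/-- A proper morphism with a very ample module over a quasi-compact quasi-separated base is projective. -/
theorem isProjective_of_isRelVeryAmple [CompactSpace Y] [QuasiSeparatedSpace Y] (g : X ⟶ Y) [IsProper g]
    {L : X.Modules} (hL : PicF.IsInvertible L) (h : RelProj.IsRelVeryAmple g L) : RelProj.IsProjective g := by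
  obtain ⟨B, φ, r, θ, hft, hr, hi⟩ := exists_lift_finiteType g hL h
  haveI := hi
  haveI := RelProjK.isSeparated_of_isRelProj B.isProj
  haveI : IsProper (r ≫ B.p) := by rw [hr.comp]; infer_instance
  haveI : IsProper r := IsProper.of_comp r B.p
  haveI : IsClosedImmersion r := .of_isPreimmersion r r.isClosedMap.isClosed_range
  rw [← hr.comp]
  exact isProjective_of_isClosedImmersion_bundle B.isQCoh hft B.isSym B.isProj r

/-- A proper quasi-projective morphism to a quasi-compact quasi-separated base is projective. -/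
theorem isProjective_of_isQuasiProjective [CompactSpace Y] [QuasiSeparatedSpace Y] (g : X ⟶ Y) [IsProper g]
    (h : RelProj.IsQuasiProjective g) : RelProj.IsProjective g := by
  obtain ⟨_, _, L, hL⟩ := h
  have hinv : PicF.IsInvertible L := Ample.isInvertible_of_isRelAmple hL
  obtain ⟨n, hn⟩ := eventually_isRelVeryAmple g hinv hinv hL
  exact isProjective_of_isRelVeryAmple g
    (Ample.isInvertible_tensorMod (Ample.isInvertible_tensorPow hinv n) hinv) (hn n le_rfl)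

end GrothLib.VA
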