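import Groth.Agent.Lib.ProjQ8.DegOne
import Groth.Agent.Lib.VA.Product
import Groth.Agent.Lib.OX.TildeTensor
import Groth.Agent.Lib.FunFlat6.LimitFunctors

/-!
# Base change, products and cancellation for projective morphisms
-/

set_option autoImplicit false
set_option backward.isDefEq.respectTransparency false

universe u

open CategoryTheory CategoryTheory.Limits AlgebraicGeometry TopologicalSpace Opposite
open MonoidalCategory

noncomputable section

namespace GrothLib.VA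

theorem isFT_tensor {Y : Scheme.{u}} {E E' : Y.Modules} (hE : Coh.IsQCoh E) (hE' : Coh.IsQCoh E') (h : CohB1.IsFT E)
    (h' : CohB1.IsFT E') : CohB1.IsFT (CohB1.tensorMod E E') := by
  haveI : E.IsQuasicoherent := hE
  haveI : E'.IsQuasicoherent := hE'
  haveI : (CohB1.tensorMod E E').IsQuasicoherent := isQCoh_tensor hE hE'
  refine (QCoh.isFiniteType_iff_moduleFinite _).2 fun U hU => ?_
  let j := hU.fromSpec
  let R := Scheme.Modules.restrictFunctorIsoPullback j
  haveI : IsIso (E.restrict j).fromTildeΓ := Scheme.Modules.isIso_fromTildeΓ_of_isQuasicoherent _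
  haveI : IsIso (E'.restrict j).fromTildeΓ := Scheme.Modules.isIso_fromTildeΓ_of_isQuasicoherent _
  let M := (moduleSpecΓFunctor (R := Γ(Y, U))).obj (E.restrict j)
  let M' := (moduleSpecΓFunctor (R := Γ(Y, U))).obj (E'.restrict j)
  haveI : Module.Finite Γ(Y, U) M := by
    haveI := QCoh.moduleFinite_of_isFiniteType E h hU
    exact Module.Finite.equiv (QCoh.topLinearEquiv hU E).symm
  haveI : Module.Finite Γ(Y, U) M' := by
    haveI := QCoh.moduleFinite_of_isFiniteType E' h' hU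
    exact Module.Finite.equiv (QCoh.topLinearEquiv hU E').symm
  let i : (CohB1.tensorMod E E').restrict j ≅ tilde (M ⊗ M') :=
    R.app _ ≪≫ OX.pullTensorIso j E E' ≪≫
      ((DCoh.tensorBi (X := Spec Γ(Y, U))).mapIso ((R.app E).symm ≪≫ (asIso (E.restrict j).fromTildeΓ).symm)).app _ ≪≫
      (((DCoh.tensorBi (X := Spec Γ(Y, U))).obj _).mapIso ((R.app E').symm ≪≫ (asIso (E'.restrict j).fromTildeΓ).symm)) ≪≫
      (OX.tildeTensorIso _ M M').symm
  haveI : Module.Finite Γ(Y, U) (M ⊗ M' : ModuleCat _) := inferInstanceAs (Module.Finite _ (TensorProduct Γ(Y, U) M M'))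
  let k := (moduleSpecΓFunctor (R := Γ(Y, U))).mapIso i ≪≫ (tilde.toTildeΓNatIso.app (M ⊗ M')).symm
  haveI : Module.Finite Γ(Y, U) ((𝟭 (ModuleCat Γ(Y, U))).obj (M ⊗ M')) := ‹_›
  exact Module.Finite.equiv (k.toLinearEquiv.symm.trans (QCoh.topLinearEquiv hU (CohB1.tensorMod E E')))

/-- A proper morphism with pieces from a module of finite type is projective. -/
theorem isProjective_of_pieces {X Y : Scheme.{u}} (g : X ⟶ Y) [IsProper g] {L : X.Modules} {E : Y.Modules}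
    (hE : Coh.IsQCoh E) (hft : CohB1.IsFT E) (φ : E ⟶ (Scheme.Modules.pushforward g).obj L)
    (hp : ∀ x, ∃ (U : Y.AffineZariskiSite) (e : Γ(E, U.1)), x ∈ Tp g φ U e ∧ PieceImm g φ U e) :
    RelProj.IsProjective g := by
  obtain ⟨B, rfl⟩ := exists_bdl E hE
  obtain ⟨r, θ, hr⟩ := Bdl.exists_lift (B := B) (g := g) (φ := φ) fun x => by
    obtain ⟨U, e, hx, -⟩ := hp x
    exact ⟨U.1, U.2, e, mem_genOpen.mp hx⟩
  haveI := hr.isImmersion hp
  haveI := RelProjK.isSeparated_of_isRelProj B.isProj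
  haveI : IsProper (r ≫ B.p) := by rw [hr.comp]; infer_instance
  haveI : IsProper r := IsProper.of_comp r B.p
  haveI : IsClosedImmersion r := .of_isPreimmersion r r.isClosedMap.isClosed_range
  rw [← hr.comp]
  exact isProjective_of_isClosedImmersion_bundle B.isQCoh hft B.isSym B.isProj r

/-- A projective morphism has an invertible module with pieces from a module of finite type. -/
theorem exists_pieces_of_isProjective {X Y : Scheme.{u}} {f : X ⟶ Y} (hf : RelProj.IsProjective f) :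
    ∃ (E : Y.Modules) (L : X.Modules) (φ : E ⟶ (Scheme.Modules.pushforward f).obj L),
      Coh.IsQCoh E ∧ CohB1.IsFT E ∧ PicF.IsInvertible L ∧
        ∀ x, ∃ (U : Y.AffineZariskiSite) (e : Γ(E, U.1)), x ∈ Tp f φ U e ∧ PieceImm f φ U e := by
  obtain ⟨E, 𝒯, j, P, p, chart, i, hE, hft, hj, hP, hi, hip⟩ := (ProjQ8.isProjective_iff_bundle f).mp hf
  haveI := hi
  obtain ⟨O1, lam, hO1⟩ := RelProjK.exists_isRelTwist (n := (1 : ℤ)) hP
  obtain ⟨c, hc⟩ := exists_canon hj hP hO1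
  let B : Bdl Y := ⟨E, hE, 𝒯, j, hj, P, p, chart, hP, O1, lam, hO1, c, hc⟩
  let L := (Scheme.Modules.pullback i).obj O1
  let θ := (Scheme.Modules.pullbackPushforwardAdjunction i).homEquiv O1 L (𝟙 L)
  have hl := Bdl.isLift_induced (B := B) hip θ fun t ht => Bdl.isGen_homEquiv (B := B) (𝟙 L) t ht
  refine ⟨E, L, B.induced f hip θ, hE, hft, Ample.isInvertible_pullback i B.isInvertible, fun x => ?_⟩
  obtain ⟨U, hU, e, he⟩ := hl.isGenBy x
  exact ⟨⟨U, hU⟩, e, mem_genOpen.mpr he, hl.pieceImm _ _⟩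

/-- Projective morphisms are stable under base change. -/
theorem isProjective_of_isPullback {X Y X' Y' : Scheme.{u}} {f : X ⟶ Y} {g : Y' ⟶ Y} {g' : X' ⟶ X} {f' : X' ⟶ Y'}
    (hsq : IsPullback g' f' f g) (hf : RelProj.IsProjective f) : RelProj.IsProjective f' := by
  haveI := ProjAlg.isProper_of_isProjective hf
  haveI : IsProper f' := MorphismProperty.of_isPullback hsq inferInstance
  obtain ⟨E, L, φ, hE, hft, hL, hp⟩ := exists_pieces_of_isProjective hf
  obtain ⟨φ', hp'⟩ := exists_pieces_baseChange hsq hL φ hp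
  haveI : E.IsQuasicoherent := hE
  exact isProjective_of_pieces f' (isQCoh_pullback g hE) (FunFlat6.isFT_pullback g E hft) φ' hp'

/-- A closed subscheme of a projective scheme is projective. -/
theorem isProjective_precomp {X X' Y : Scheme.{u}} (i : X' ⟶ X) [IsClosedImmersion i] {f : X ⟶ Y}
    (hf : RelProj.IsProjective f) : RelProj.IsProjective (i ≫ f) := by
  obtain ⟨𝒮, P, p, chart, e, hgen, hft, hP, rfl⟩ := hf
  rw [← Category.assoc]
  exact ProjQ8.isProjective_comp (i ≫ e.hom) hP hgen hft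

/-- Cancellation for projective morphisms. -/
theorem isProjective_of_comp {X Y Z : Scheme.{u}} (f : X ⟶ Y) (g : Y ⟶ Z) [IsSeparated g]
    (h : RelProj.IsProjective (f ≫ g)) : RelProj.IsProjective f := by
  haveI := ProjAlg.isProper_of_isProjective h
  haveI : IsProper f := IsProper.of_comp f g
  obtain ⟨E, L, φ, hE, hft, hL, hp⟩ := exists_pieces_of_isProjective h
  obtain ⟨φ', hp'⟩ := exists_pieces_of_comp g φ hp
  haveI : E.IsQuasicoherent := hE
  exact isProjective_of_pieces f (isQCoh_pullback g hE) (FunFlat6.isFT_pullback g E hft) φ' hp'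

/-- A product of projective morphisms is projective. -/
theorem isProjective_fibreProd {S X₁ X₂ Y₁ Y₂ P Q : Scheme.{u}} {y₁ : Y₁ ⟶ S} {y₂ : Y₂ ⟶ S} {f₁ : X₁ ⟶ Y₁}
    {f₂ : X₂ ⟶ Y₂} {p₁ : P ⟶ X₁} {p₂ : P ⟶ X₂} (hP : IsPullback p₁ p₂ (f₁ ≫ y₁) (f₂ ≫ y₂)) {q₁ : Q ⟶ Y₁}
    {q₂ : Q ⟶ Y₂} (hQ : q₁ ≫ y₁ = q₂ ≫ y₂) {h : P ⟶ Q} [IsProper h] (hh₁ : h ≫ q₁ = p₁ ≫ f₁)
    (hh₂ : h ≫ q₂ = p₂ ≫ f₂) (hf₁ : RelProj.IsProjective f₁) (hf₂ : RelProj.IsProjective f₂) :
    RelProj.IsProjective h := by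
  obtain ⟨E₁, L₁, φ₁, hE₁, hft₁, hL₁, hp₁⟩ := exists_pieces_of_isProjective hf₁
  obtain ⟨E₂, L₂, φ₂, hE₂, hft₂, hL₂, hp₂⟩ := exists_pieces_of_isProjective hf₂
  obtain ⟨φ, hp⟩ := exists_pieces_fibreProd hP hQ hh₁ hh₂ hL₁ φ₁ hp₁ hL₂ φ₂ hp₂
  haveI : E₁.IsQuasicoherent := hE₁
  haveI : E₂.IsQuasicoherent := hE₂
  exact isProjective_of_pieces h (isQCoh_tensor (isQCoh_pullback q₁ hE₁) (isQCoh_pullback q₂ hE₂))
    (isFT_tensor (isQCoh_pullback q₁ hE₁) (isQCoh_pullback q₂ hE₂) (FunFlat6.isFT_pullback q₁ E₁ hft₁)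
      (FunFlat6.isFT_pullback q₂ E₂ hft₂)) φ hp

end GrothLib.VA
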