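import Groth.Agent.Lib.ProjQ8.Bundle
import Groth.Agent.Lib.RelProjK.MapProps
import Groth.Agent.Lib.ProjAlg.Proper

/-!
# Projective morphisms are closed subschemes of projective bundles
-/

set_option autoImplicit false
set_option backward.isDefEq.respectTransparency false

universe u

open CategoryTheory CategoryTheory.Limits AlgebraicGeometry TopologicalSpace Opposite
open GrothLib.QCoh GrothLib.QCoh.SubData
open scoped HomogeneousIdeal

noncomputable section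

namespace GrothLib.ProjQ8

variable {Y : Scheme.{u}} (𝒮 : RelProj.QCGrAlg Y)

theorem toModule_smul {U : Y.Opens} (r : Γ(Y, U)) (m : 𝒮.presheaf.obj (op U)) :
    (show 𝒮.presheaf.obj (op U) from r • (show Γ(𝒮.toModule, U) from m)) = strA 𝒮 U r * m := rfl

theorem isQuasicoherent_toModule : 𝒮.toModule.IsQuasicoherent := by
  refine (isQuasicoherent_iff_smulLift_smulSep _).mpr fun U hU g => ?_
  let ρ : 𝒮.presheaf.obj (op U) →+* 𝒮.presheaf.obj (op (Y.basicOpen g)) :=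
    (𝒮.presheaf.map (homOfLE (Y.basicOpen_le g)).op).hom
  letI := ρ.toAlgebra
  haveI : IsLocalization.Away (strA 𝒮 U g) (𝒮.presheaf.obj (op (Y.basicOpen g))) := 𝒮.isQC U hU g
  refine ⟨fun (y : 𝒮.presheaf.obj (op (Y.basicOpen g))) => ?_, fun (t : 𝒮.presheaf.obj (op U)) ht => ?_⟩
  · obtain ⟨n, a, hy⟩ := IsLocalization.Away.surj (strA 𝒮 U g) y
    refine ⟨n, a, ?_⟩
    show ρ a = strA 𝒮 _ _ * y
    rw [map_pow, ← resA_strA 𝒮 (Y.basicOpen_le g) g, mul_comm]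
    exact hy.symm
  · obtain ⟨⟨c, n, rfl⟩, hc⟩ := IsLocalization.exists_of_eq (M := Submonoid.powers (strA 𝒮 U g))
      (S := 𝒮.presheaf.obj (op (Y.basicOpen g))) (x := t) (y := 0) (ht.trans (map_zero ρ).symm)
    refine ⟨n, ?_⟩
    show strA 𝒮 U (g ^ n) * t = 0
    rw [map_pow]
    simpa using hc

/-- The degree one elements over an affine open, as a submodule. -/
def degSub (V : Y.Opens) (hV : IsAffineOpen V) : Submodule Γ(Y, V) Γ(𝒮.toModule, V) where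
  carrier := (𝒮.deg V hV 1 : Set (𝒮.presheaf.obj (op V)))
  add_mem' ha hb := add_mem (S := AddSubgroup (𝒮.presheaf.obj (op V))) ha hb
  zero_mem' := zero_mem (𝒮.deg V hV 1)
  smul_mem' r m hm := by
    letI := 𝒮.gradedRing V hV
    have h : strA 𝒮 V r * (show 𝒮.presheaf.obj (op V) from m) ∈ 𝒮.deg V hV (0 + 1) :=
      SetLike.mul_mem_graded (𝒮.str_mem V hV r) hm
    rwa [zero_add] at h

theorem rr_mem_degSub {V W : Y.Opens} (hV : IsAffineOpen V) (hW : IsAffineOpen W) (h : W ≤ V)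
    {s : Γ(𝒮.toModule, V)} (hs : s ∈ degSub 𝒮 V hV) : rr h s ∈ degSub 𝒮 W hW :=
  𝒮.map_mem hV hW h hs

/-- The degree one part as a submodule of the algebra. -/
def degOne : SubData 𝒮.toModule where
  sec T :=
    { carrier := {s | ∀ x ∈ T, ∃ (V : Y.Opens) (hV : IsAffineOpen V) (h : V ≤ T), x ∈ V ∧ rr h s ∈ degSub 𝒮 V hV}
      add_mem' := fun {a b} ha hb x hx => by
        obtain ⟨V₁, hV₁, h₁, hx₁, m₁⟩ := ha x hx
        obtain ⟨V₂, hV₂, h₂, hx₂, m₂⟩ := hb x hx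
        obtain ⟨V, hV, hxV, hle⟩ := exists_isAffineOpen_mem_and_subset (show x ∈ V₁ ⊓ V₂ from ⟨hx₁, hx₂⟩)
        have hle₁ : V ≤ V₁ := fun y hy => (hle hy).1
        have hle₂ : V ≤ V₂ := fun y hy => (hle hy).2
        refine ⟨V, hV, hle₁.trans h₁, hxV, ?_⟩
        rw [map_add]
        refine add_mem ?_ ?_
        · rw [← rr_rr h₁ hle₁]; exact rr_mem_degSub 𝒮 hV₁ hV hle₁ m₁
        · rw [← rr_rr h₂ hle₂]; exact rr_mem_degSub 𝒮 hV₂ hV hle₂ m₂
      zero_mem' := fun x hx => by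
        obtain ⟨V, hV, hxV, hle⟩ := exists_isAffineOpen_mem_and_subset hx
        exact ⟨V, hV, hle, hxV, by rw [map_zero]; exact zero_mem _⟩
      smul_mem' := fun r s hs x hx => by
        obtain ⟨V, hV, h, hxV, m⟩ := hs x hx
        exact ⟨V, hV, h, hxV, by rw [rr_smul]; exact Submodule.smul_mem _ _ m⟩ }
  map_mem {U W} i s hs x hx := by
    obtain ⟨V₁, hV₁, h₁, hx₁, m₁⟩ := hs x (i.le hx)
    obtain ⟨V, hV, hxV, hle⟩ := exists_isAffineOpen_mem_and_subset (show x ∈ V₁ ⊓ W from ⟨hx₁, hx⟩)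
    have hle₁ : V ≤ V₁ := fun y hy => (hle hy).1
    refine ⟨V, hV, fun y hy => (hle hy).2, hxV, ?_⟩
    change rr _ (rr i.le s) ∈ _
    rw [rr_rr, ← rr_rr h₁ hle₁]
    exact rr_mem_degSub 𝒮 hV₁ hV hle₁ m₁
  locality {U} s h x hx := by
    obtain ⟨W, i, hxW, hW⟩ := h x hx
    obtain ⟨V, hV, h₁, hxV, m⟩ := hW x hxW
    refine ⟨V, hV, h₁.trans i.le, hxV, ?_⟩
    change rr h₁ (rr i.le s) ∈ _ at m
    rwa [rr_rr] at m

variable {𝒮}

theorem degOne_eq_gen {U : Y.Opens} (hU : IsAffineOpen U) (T : Finset (𝒮.presheaf.obj (op U)))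
    (hT1 : (↑T : Set (𝒮.presheaf.obj (op U))) ⊆ (𝒮.deg U hU 1 : Set _))
    (hT : ∀ x ∈ 𝒮.deg U hU 1, ∃ c : (𝒮.presheaf.obj (op U)) → Γ(Y, U), x = ∑ t ∈ T, strA 𝒮 U (c t) * t)
    {W : Y.Opens} (hW : W ≤ U) :
    (degOne 𝒮).sec W = (gen (F := 𝒮.toModule) (show Set (𝒮.presheaf.obj (op U)) from ↑T)).sec W := by
  classical
  ext s
  constructor
  · intro hs x hx hxU
    obtain ⟨V, hV, h, hxV, m⟩ := hs x hx
    obtain ⟨g, hg, hxg⟩ := exists_basicOpen_mem hU hxU hxV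
    let D := Y.basicOpen g
    have hD : IsAffineOpen D := hU.basicOpen g
    refine ⟨D, hg.trans h, Y.basicOpen_le g, hxg, ?_⟩
    let ψ := 𝒮.res hU hD (Y.basicOpen_le g)
    letI := ψ.toRingHom.toAlgebra
    haveI : IsLocalization.Away (strA 𝒮 U g) (𝒮.presheaf.obj (op D)) := 𝒮.isQC U hU g
    letI := 𝒮.gradedRing U hU
    letI := 𝒮.gradedRing D hD
    let y : 𝒮.presheaf.obj (op D) := rr (hg.trans h) s
    have hy : y ∈ 𝒮.deg D hD 1 := by
      have := rr_mem_degSub 𝒮 hV hD hg m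
      rwa [rr_rr] at this
    obtain ⟨n, a, hya⟩ := IsLocalization.Away.surj (strA 𝒮 U g) y
    have hya' : y * ψ (strA 𝒮 U g) ^ n = ψ a := hya
    let a₁ : 𝒮.presheaf.obj (op U) := DirectSum.decompose (𝒮.deg U hU) a 1
    have h1 : y * ψ (strA 𝒮 U g) ^ n ∈ 𝒮.deg D hD (1 + 0) :=
      SetLike.mul_mem_graded hy (by simpa using SetLike.pow_mem_graded n (ψ.map_mem (𝒮.str_mem U hU g)))
    have ha₁ : ψ a₁ = y * ψ (strA 𝒮 U g) ^ n := by
      rw [GradedRingHom.map_directSumDecompose, ← hya', DirectSum.decompose_of_mem_same _ (by simpa using h1)]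
    obtain ⟨c, hc⟩ := hT a₁ (SetLike.coe_mem _)
    have hmem : (show Γ(𝒮.toModule, D) from ψ a₁) ∈
        Submodule.span Γ(Y, D) (rr (F := 𝒮.toModule) (Y.basicOpen_le g) '' (show Set (𝒮.presheaf.obj (op U)) from ↑T)) := by
      rw [hc, map_sum]
      refine Submodule.sum_mem _ fun t ht => ?_
      rw [map_mul, show ψ (strA 𝒮 U (c t)) = strA 𝒮 D _ from resA_strA 𝒮 (Y.basicOpen_le g) (c t)]
      exact Submodule.smul_mem _ _ (Submodule.subset_span ⟨t, ht, rfl⟩)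
    have hu : IsUnit (Y.presheaf.map (homOfLE (Y.basicOpen_le g)).op g) :=
      RingedSpace.isUnit_res_basicOpen Y.toRingedSpace g
    obtain ⟨w, hw⟩ := (hu.pow n).exists_left_inv
    have key : (show Γ(𝒮.toModule, D) from y) = w • (show Γ(𝒮.toModule, D) from ψ a₁) := by
      show y = strA 𝒮 D w * ψ a₁
      rw [ha₁, show ψ (strA 𝒮 U g) = strA 𝒮 D _ from resA_strA 𝒮 (Y.basicOpen_le g) g, ← map_pow, mul_left_comm,
        ← map_mul, hw, map_one, mul_one]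
    show y ∈ _
    exact key ▸ Submodule.smul_mem _ _ hmem
  · intro hs x hx
    obtain ⟨W', h, h', hx', m⟩ := hs x hx (hW hx)
    obtain ⟨V, hV, hxV, hle⟩ := exists_isAffineOpen_mem_and_subset hx'
    have hle' : V ≤ W' := hle
    refine ⟨V, hV, hle'.trans h, hxV, ?_⟩
    rw [← rr_rr h hle']
    refine Submodule.span_le.mpr ?_ (rr_mem_span' h' hle' m)
    rintro _ ⟨t, ht, rfl⟩
    exact rr_mem_degSub 𝒮 hU hV (hle'.trans h') (hT1 ht)

theorem locGen_degOne (hft : 𝒮.IsFTDeg 1) : SubData.LocGen (degOne 𝒮) ⊤ := by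
  intro x _
  obtain ⟨U, hU, hxU, -⟩ := exists_isAffineOpen_mem_and_subset (show x ∈ (⊤ : Y.Opens) from trivial)
  obtain ⟨T, hT1, hT⟩ := hft U hU
  exact ⟨U, hU, hxU, le_top, _, T.finite_toSet, fun W hW => degOne_eq_gen hU T hT1 hT hW⟩

theorem mem_degOne_iff {U : Y.Opens} (hU : IsAffineOpen U) (s : Γ(𝒮.toModule, U)) :
    s ∈ (degOne 𝒮).sec U ↔ s ∈ degSub 𝒮 U hU := by
  classical
  refine ⟨fun hs => ?_, fun hs x hx => ⟨U, hU, le_rfl, hx, by rwa [rr_self]⟩⟩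
  letI := 𝒮.gradedRing U hU
  let a : 𝒮.presheaf.obj (op U) := s
  suffices hzero : ∀ d, d ≠ 1 → (DirectSum.decompose (𝒮.deg U hU) a d : 𝒮.presheaf.obj (op U)) = 0 by
    have h1 := DirectSum.sum_support_decompose (𝒮.deg U hU) a
    have h2 : ∑ d ∈ (DirectSum.decompose (𝒮.deg U hU) a).support,
        (DirectSum.decompose (𝒮.deg U hU) a d : 𝒮.presheaf.obj (op U)) ∈ 𝒮.deg U hU 1 := by
      refine sum_mem fun d _ => ?_
      by_cases hd : d = 1
      · subst hd; exact SetLike.coe_mem _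
      · rw [hzero d hd]; exact zero_mem _
    rw [h1] at h2
    exact h2
  intro d hd
  refine TopCat.Sheaf.eq_of_locally_eq'
    (⟨𝒮.presheaf, 𝒮.isSheaf⟩ : TopCat.Sheaf CommRingCat.{u} Y.carrier)
    (fun g : {g : Γ(Y, U) // ∃ (V : Y.Opens) (hV : IsAffineOpen V) (h : V ≤ U),
      Y.basicOpen g ≤ V ∧ rr h s ∈ degSub 𝒮 V hV} => Y.basicOpen g.1) U (fun g => homOfLE (Y.basicOpen_le _))
    (fun x hx => ?_) _ _ fun g => ?_
  · obtain ⟨V, hV, h, hxV, m⟩ := hs x hx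
    obtain ⟨g, hg, hxg⟩ := exists_basicOpen_mem hU hx hxV
    exact Opens.mem_iSup.mpr ⟨⟨g, V, hV, h, hg, m⟩, hxg⟩
  · obtain ⟨g, V, hV, h, hg, m⟩ := g
    have hD : IsAffineOpen (Y.basicOpen g) := hU.basicOpen g
    letI := 𝒮.gradedRing (Y.basicOpen g) hD
    let ψ := 𝒮.res hU hD (Y.basicOpen_le g)
    show ψ (DirectSum.decompose (𝒮.deg U hU) a d : 𝒮.presheaf.obj (op U)) = ψ 0
    have hm := rr_mem_degSub 𝒮 hV hD hg m
    rw [rr_rr] at hm
    rw [map_zero, GradedRingHom.map_directSumDecompose]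
    exact DirectSum.decompose_of_mem_ne (𝒮.deg (Y.basicOpen g) hD) (show ψ a ∈ _ from hm) (Ne.symm hd)

theorem isQuasicoherent_degOne : (degOne 𝒮).obj.IsQuasicoherent := by
  classical
  haveI := isQuasicoherent_toModule 𝒮
  refine (degOne 𝒮).isQuasicoherent fun U hU g t ht => ?_
  have hD : IsAffineOpen (Y.basicOpen g) := hU.basicOpen g
  letI := 𝒮.gradedRing U hU
  letI := 𝒮.gradedRing (Y.basicOpen g) hD
  let ψ := 𝒮.res hU hD (Y.basicOpen_le g)
  letI := ψ.toRingHom.toAlgebra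
  haveI : IsLocalization.Away (strA 𝒮 U g) (𝒮.presheaf.obj (op (Y.basicOpen g))) := 𝒮.isQC U hU g
  let a : 𝒮.presheaf.obj (op U) := t
  let c := DirectSum.decompose (𝒮.deg U hU) a
  have hk : ∀ d, d ≠ 1 → ∃ k : ℕ, strA 𝒮 U g ^ k * (c d : 𝒮.presheaf.obj (op U)) = 0 := fun d hd => by
    have h1 : ψ (c d : 𝒮.presheaf.obj (op U)) = ψ 0 := by
      rw [map_zero, GradedRingHom.map_directSumDecompose]
      exact DirectSum.decompose_of_mem_ne (𝒮.deg _ hD) (show ψ a ∈ _ from (mem_degOne_iff hD _).mp ht) (Ne.symm hd)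
    obtain ⟨⟨_, k, rfl⟩, hk⟩ := IsLocalization.exists_of_eq (M := Submonoid.powers (strA 𝒮 U g))
      (S := 𝒮.presheaf.obj (op (Y.basicOpen g))) h1
    exact ⟨k, by simpa using hk⟩
  choose! k hk using hk
  let m := c.support.sup k
  refine ⟨m, (mem_degOne_iff hU _).mpr ?_⟩
  show strA 𝒮 U (g ^ m) * a ∈ 𝒮.deg U hU 1
  rw [← DirectSum.sum_support_decompose (𝒮.deg U hU) a, Finset.mul_sum, map_pow]
  refine sum_mem fun d hd => ?_
  have h0 : strA 𝒮 U g ^ m ∈ 𝒮.deg U hU 0 := by simpa using SetLike.pow_mem_graded m (𝒮.str_mem U hU g)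
  by_cases h1 : d = 1
  · subst h1
    have := SetLike.mul_mem_graded h0 (SetLike.coe_mem (c 1))
    rwa [zero_add] at this
  · obtain ⟨r, hr⟩ := Nat.exists_eq_add_of_le (Finset.le_sup (f := k) hd)
    rw [show m = r + k d by rw [add_comm]; exact hr, pow_add, mul_assoc, hk d h1, mul_zero]
    exact zero_mem _

section map

variable {E : Y.Modules} {𝒯 : RelProj.QCGrAlg Y} {j : E ⟶ 𝒯.toModule} (φ : 𝒯.toQCAlg ⟶ 𝒮.toQCAlg)

theorem hom_str (U : Y.Opens) (r : Γ(Y, U)) : (φ.hom.app (op U)).hom (strA 𝒯 U r) = strA 𝒮 U r :=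
  ConcreteCategory.congr_hom (NatTrans.congr_app φ.comm (op U)) r

theorem isGradedHom_of_gen (hE : Coh.IsQCoh E) (hj : RelProj.IsGrSymAlg E 𝒯 j)
    (h1 : ∀ (U : Y.Opens) (hU : IsAffineOpen U) (e : Γ(E, U)),
      (φ.hom.app (op U)).hom (show 𝒯.presheaf.obj (op U) from j.app U e) ∈ 𝒮.deg U hU 1) : RelProj.IsGradedHom φ := by
  classical
  intro U hU d x hx
  letI := 𝒮.gradedRing U hU
  letI := 𝒯.gradedRing U hU
  let f := (φ.hom.app (op U)).hom
  let v : Γ(E, U) → 𝒯.presheaf.obj (op U) := fun e => j.app U e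
  have hmon : ∀ a ∈ Submonoid.closure (Set.range (strA 𝒯 U) ∪ Set.range v),
      ∃ i, a ∈ 𝒯.deg U hU i ∧ f a ∈ 𝒮.deg U hU i := by
    intro a ha
    induction ha using Submonoid.closure_induction with
    | mem a ha =>
      rcases ha with ⟨r, rfl⟩ | ⟨e, rfl⟩
      · exact ⟨0, 𝒯.str_mem U hU r, (hom_str φ U r).symm ▸ 𝒮.str_mem U hU r⟩
      · exact ⟨1, hj.2 U hU e, h1 U hU e⟩
    | one => exact ⟨0, SetLike.one_mem_graded _, (map_one f).symm ▸ SetLike.one_mem_graded _⟩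
    | mul a b _ _ ha hb =>
      obtain ⟨i, hia, hfa⟩ := ha; obtain ⟨k, hkb, hfb⟩ := hb
      exact ⟨i + k, SetLike.mul_mem_graded hia hkb, (map_mul f a b).symm ▸ SetLike.mul_mem_graded hfa hfb⟩
  have key : ∀ a ∈ AddSubgroup.closure (Submonoid.closure (Set.range (strA 𝒯 U) ∪ Set.range v) : Set _),
      ∀ i, f (GradedRing.proj (𝒯.deg U hU) i a) ∈ 𝒮.deg U hU i := by
    intro a ha
    induction ha using AddSubgroup.closure_induction with
    | mem a ha =>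
      intro i
      obtain ⟨k, hka, hfa⟩ := hmon a ha
      rw [GradedRing.proj_apply]
      by_cases hik : k = i
      · subst hik; rwa [DirectSum.decompose_of_mem_same _ hka]
      · rw [DirectSum.decompose_of_mem_ne _ hka hik, map_zero]; exact zero_mem _
    | zero => intro i; rw [map_zero, map_zero]; exact zero_mem _
    | add a b _ _ ha hb => intro i; rw [map_add, map_add]; exact add_mem (ha i) (hb i)
    | neg a _ ha => intro i; rw [map_neg, map_neg]; exact neg_mem (ha i)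
  have h := key x (Subring.mem_closure_iff.mp ((VA.closure_str_ev hE hj ⟨U, hU⟩).ge trivial)) d
  rwa [GradedRing.proj_apply, DirectSum.decompose_of_mem_same _ hx] at h

theorem exists_preimage_of_gen (hgen : 𝒮.IsGenDegOne) (hφ : RelProj.IsGradedHom φ) (U : Y.Opens)
    (hU : IsAffineOpen U) (h1 : ∀ b ∈ 𝒮.deg U hU 1, ∃ a ∈ 𝒯.deg U hU 1, (φ.hom.app (op U)).hom a = b)
    {n : ℕ} (hn : 0 < n) {b : 𝒮.presheaf.obj (op U)} (hb : b ∈ 𝒮.deg U hU n) :
    ∃ a ∈ 𝒯.deg U hU n, (φ.hom.app (op U)).hom a = b := by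
  classical
  letI := 𝒮.gradedRing U hU
  letI := 𝒯.gradedRing U hU
  let f := (φ.hom.app (op U)).hom
  let S₀ : Set (𝒮.presheaf.obj (op U)) := 𝒮.deg U hU 0
  let S₁ : Set (𝒮.presheaf.obj (op U)) := 𝒮.deg U hU 1
  have hmul : ∀ {i : ℕ} {s : 𝒮.presheaf.obj (op U)}, s ∈ 𝒮.deg U hU 0 → 0 < i →
      ∀ {t}, (∃ (t₁ : _) (t' : _), t₁ ∈ 𝒯.deg U hU 1 ∧ t' ∈ 𝒯.deg U hU (i - 1) ∧ t = f t₁ * f t') →
      ∃ (t₁ : _) (t' : _), t₁ ∈ 𝒯.deg U hU 1 ∧ t' ∈ 𝒯.deg U hU (i - 1) ∧ s * t = f t₁ * f t' := by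
    rintro i s hs hi t ⟨t₁, t', ht₁, ht', rfl⟩
    obtain ⟨a, ha, hfa⟩ := h1 (s * f t₁) (by simpa using SetLike.mul_mem_graded hs (hφ U hU 1 t₁ ht₁))
    exact ⟨a, t', ha, ht', by rw [show f a = s * f t₁ from hfa, mul_assoc]⟩
  have hmon : ∀ a ∈ Submonoid.closure (S₀ ∪ S₁), ∃ i, a ∈ 𝒮.deg U hU i ∧
      (0 < i → ∃ (t₁ : _) (t' : _), t₁ ∈ 𝒯.deg U hU 1 ∧ t' ∈ 𝒯.deg U hU (i - 1) ∧ a = f t₁ * f t') := by
    intro a ha
    induction ha using Submonoid.closure_induction with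
    | mem a ha =>
      rcases ha with ha | ha
      · exact ⟨0, ha, fun h => absurd h (lt_irrefl 0)⟩
      · obtain ⟨t, ht, hft⟩ := h1 a ha
        exact ⟨1, ha, fun _ => ⟨t, 1, ht, (Nat.sub_self 1).symm ▸ SetLike.one_mem_graded _, by rw [map_one, mul_one]; exact hft.symm⟩⟩
    | one => exact ⟨0, SetLike.one_mem_graded _, fun h => absurd h (lt_irrefl 0)⟩
    | mul a b _ _ ha hb =>
      obtain ⟨i, hia, hta⟩ := ha; obtain ⟨k, hkb, htb⟩ := hb
      refine ⟨i + k, SetLike.mul_mem_graded hia hkb, fun hpos => ?_⟩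
      rcases Nat.eq_zero_or_pos i with rfl | hi
      · rw [zero_add] at hpos ⊢
        exact hmul hia hpos (htb hpos)
      rcases Nat.eq_zero_or_pos k with rfl | hk
      · rw [add_zero, mul_comm]
        exact hmul hkb hi (hta hi)
      obtain ⟨t₁, t', ht₁, ht', rfl⟩ := hta hi
      obtain ⟨u₁, u', hu₁, hu', rfl⟩ := htb hk
      refine ⟨t₁, t' * (u₁ * u'), ht₁, ?_, by rw [map_mul, map_mul]; ring⟩
      have := SetLike.mul_mem_graded ht' (SetLike.mul_mem_graded hu₁ hu')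
      rwa [show i - 1 + (1 + (k - 1)) = i + k - 1 by omega] at this
  have key : ∀ a ∈ AddSubgroup.closure (Submonoid.closure (S₀ ∪ S₁) : Set _),
      ∃ c ∈ 𝒯.deg U hU n, f c = GradedRing.proj (𝒮.deg U hU) n a := by
    intro a ha
    induction ha using AddSubgroup.closure_induction with
    | mem a ha =>
      obtain ⟨i, hia, hta⟩ := hmon a ha
      rw [GradedRing.proj_apply]
      by_cases hin : i = n
      · subst hin
        obtain ⟨t₁, t', ht₁, ht', rfl⟩ := hta hn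
        refine ⟨t₁ * t', ?_, by rw [DirectSum.decompose_of_mem_same _ hia, map_mul]⟩
        have := SetLike.mul_mem_graded ht₁ ht'
        rwa [show 1 + (i - 1) = i by omega] at this
      · exact ⟨0, zero_mem _, by rw [DirectSum.decompose_of_mem_ne _ hia hin, map_zero]⟩
    | zero => exact ⟨0, zero_mem _, by rw [map_zero, map_zero]⟩
    | add a b _ _ ha hb =>
      obtain ⟨c, hc, hfc⟩ := ha; obtain ⟨c', hc', hfc'⟩ := hb
      exact ⟨c + c', add_mem hc hc', by rw [map_add, map_add, hfc, hfc']⟩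
    | neg a _ ha => obtain ⟨c, hc, hfc⟩ := ha; exact ⟨-c, neg_mem hc, by rw [map_neg, map_neg, hfc]⟩
  obtain ⟨c, hc, hfc⟩ := key b (Subring.mem_closure_iff.mp ((hgen U hU).ge trivial))
  rw [GradedRing.proj_apply, DirectSum.decompose_of_mem_same _ hb] at hfc
  exact ⟨c, hc, hfc⟩

end map

/-- The relative Proj of an algebra generated in degree one embeds into the projective bundle of its degree one
part. -/
theorem exists_bundleMap {P : Scheme.{u}} {p : P ⟶ Y}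
    {chart : ∀ (U : Y.Opens) (hU : IsAffineOpen U), ((p ⁻¹ᵁ U : P.Opens) : Scheme.{u}) ≅ Proj (𝒮.deg U hU)}
    (hgen : 𝒮.IsGenDegOne) (hP : RelProj.IsRelProj 𝒮 p chart) :
    ∃ (𝒯 : RelProj.QCGrAlg Y) (j : (degOne 𝒮).obj ⟶ 𝒯.toModule) (φ : 𝒯.toQCAlg ⟶ 𝒮.toQCAlg)
      (hφ : RelProj.IsGradedHom φ)
      (hirr : ∀ (U : Y.Opens) (hU : IsAffineOpen U),
        (𝒮.deg U hU)₊ ≤ ((𝒯.deg U hU)₊).map (RelProj.gradedHomAt φ hφ U hU))
      (Q : Scheme.{u}) (q : Q ⟶ Y)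
      (qchart : ∀ (U : Y.Opens) (hU : IsAffineOpen U), ((q ⁻¹ᵁ U : Q.Opens) : Scheme.{u}) ≅ Proj (𝒯.deg U hU))
      (i : P ⟶ Q),
      RelProj.IsGrSymAlg (degOne 𝒮).obj 𝒯 j ∧ RelProj.IsRelProj 𝒯 q qchart ∧
        RelProj.IsRelProjMap φ hφ hirr qchart chart i ∧ IsClosedImmersion i ∧ i ≫ q = p := by
  haveI := isQuasicoherent_toModule 𝒮
  let E := (degOne 𝒮).obj
  have hE : Coh.IsQCoh E := isQuasicoherent_degOne
  obtain ⟨𝒯, j, hj⟩ := SymAlgX.exists_isGrSymAlg hE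
  obtain ⟨φ, hφj, -⟩ := hj.1 𝒮.toQCAlg (degOne 𝒮).ι
  have hje : ∀ (U : Y.Opens) (e : Γ(E, U)),
      (φ.hom.app (op U)).hom (show 𝒯.presheaf.obj (op U) from j.app U e) = (degOne 𝒮).ι.app U e := fun U e =>
    congrArg (fun k : E ⟶ 𝒮.toModule => k.app U e) hφj
  have hφ : RelProj.IsGradedHom φ := isGradedHom_of_gen φ hE hj fun U hU e => by
    rw [hje]
    exact (mem_degOne_iff hU _).mp ((degOne 𝒮).ι_app_mem e)
  have hs : ∀ (U : Y.Opens) (hU : IsAffineOpen U) (n : ℕ), 0 < n → ∀ b ∈ 𝒮.deg U hU n,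
      ∃ a ∈ 𝒯.deg U hU n, (φ.hom.app (op U)).hom a = b := fun U hU n hn b hb =>
    exists_preimage_of_gen φ hgen hφ U hU (fun b hb =>
      ⟨_, hj.2 U hU ((degOne 𝒮).lift (U := U) b ((mem_degOne_iff hU _).mpr hb)),
        (hje U _).trans ((degOne 𝒮).ι_app_lift (U := U) b _)⟩) hn hb
  have hirr : ∀ (U : Y.Opens) (hU : IsAffineOpen U),
      (𝒮.deg U hU)₊ ≤ ((𝒯.deg U hU)₊).map (RelProj.gradedHomAt φ hφ U hU) := fun U hU => by
    letI := 𝒮.gradedRing U hU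
    letI := 𝒯.gradedRing U hU
    rw [HomogeneousIdeal.irrelevant_le]
    intro i hi b hb
    obtain ⟨a, ha, hab⟩ := hs U hU i hi b hb
    rw [← hab]
    exact Ideal.mem_map_of_mem (RelProj.gradedHomAt φ hφ U hU) (HomogeneousIdeal.mem_irrelevant_of_mem _ hi ha)
  have hQ := RelProjK.isRelProj_proj 𝒯
  obtain ⟨i, hi, -⟩ := RelProjK.isRelProjMap_existsUnique φ hφ hirr hQ hP
  refine ⟨𝒯, j, φ, hφ, hirr, _, _, _, i, hj, hQ, hi, ?_, RelProjK.relProjMap_comp hQ hP hi⟩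
  exact RelProjK.property_relProjMap @IsClosedImmersion hQ hP hi fun U hU =>
    ProjAlg.isClosedImmersion_map_of_pos _ (hirr U hU) fun n hn b hb =>
      let ⟨a, _, ha⟩ := hs U hU n hn b hb; ⟨a, ha⟩

/-- The relative Proj of an algebra generated by a degree one part of finite type embeds into a projective bundle. -/
theorem exists_bundle_closedImmersion {P : Scheme.{u}} {p : P ⟶ Y}
    {chart : ∀ (U : Y.Opens) (hU : IsAffineOpen U), ((p ⁻¹ᵁ U : P.Opens) : Scheme.{u}) ≅ Proj (𝒮.deg U hU)}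
    (hgen : 𝒮.IsGenDegOne) (hft : 𝒮.IsFTDeg 1) (hP : RelProj.IsRelProj 𝒮 p chart) :
    ∃ (E : Y.Modules) (𝒯 : RelProj.QCGrAlg Y) (j : E ⟶ 𝒯.toModule) (Q : Scheme.{u}) (q : Q ⟶ Y)
      (qchart : ∀ (U : Y.Opens) (hU : IsAffineOpen U), ((q ⁻¹ᵁ U : Q.Opens) : Scheme.{u}) ≅ Proj (𝒯.deg U hU))
      (i : P ⟶ Q), Coh.IsQCoh E ∧ CohB1.IsFT E ∧ RelProj.IsGrSymAlg E 𝒯 j ∧ RelProj.IsRelProj 𝒯 q qchart ∧
        IsClosedImmersion i ∧ i ≫ q = p := by
  haveI := isQuasicoherent_toModule 𝒮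
  obtain ⟨𝒯, j, -, -, -, Q, q, qchart, i, hj, hQ, -, hi, hiq⟩ := exists_bundleMap hgen hP
  exact ⟨_, 𝒯, j, Q, q, qchart, i, isQuasicoherent_degOne, (locGen_degOne hft).isFiniteType, hj, hQ, hi, hiq⟩

/-- A projective morphism factors as a closed immersion into the bundle of a module of finite type. -/
theorem isProjective_iff_bundle {X : Scheme.{u}} (f : X ⟶ Y) :
    RelProj.IsProjective f ↔
      ∃ (E : Y.Modules) (𝒯 : RelProj.QCGrAlg Y) (j : E ⟶ 𝒯.toModule) (P : Scheme.{u}) (p : P ⟶ Y)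
        (chart : ∀ (U : Y.Opens) (hU : IsAffineOpen U), ((p ⁻¹ᵁ U : P.Opens) : Scheme.{u}) ≅ Proj (𝒯.deg U hU))
        (i : X ⟶ P),
        Coh.IsQCoh E ∧ CohB1.IsFT E ∧ RelProj.IsGrSymAlg E 𝒯 j ∧ RelProj.IsRelProj 𝒯 p chart ∧
          IsClosedImmersion i ∧ i ≫ p = f := by
  constructor
  · rintro ⟨𝒮, P, p, chart, e, hgen, hft, hP, rfl⟩
    obtain ⟨E, 𝒯, j, Q, q, qchart, i, hE, hEft, hj, hQ, hi, rfl⟩ := exists_bundle_closedImmersion hgen hft hP
    haveI := hi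
    exact ⟨E, 𝒯, j, Q, q, qchart, e.hom ≫ i, hE, hEft, hj, hQ, inferInstance, Category.assoc _ _ _⟩
  · rintro ⟨E, 𝒯, j, P, p, chart, i, hE, hft, hj, hP, hi, rfl⟩
    haveI := hi
    exact VA.isProjective_of_isClosedImmersion_bundle hE hft hj hP i

end GrothLib.ProjQ8
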