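import Groth.Agent.Lib.ProjQ8.QuotRing
import Groth.Agent.Lib.RelSpec.OfAffine
import Groth.Agent.Lib.RelProjK.Away
import Groth.Prelude.Def_RelProj

/-!
# Quotients of quasi-coherent graded algebras by compatible homogeneous ideals
-/

set_option autoImplicit false
set_option backward.isDefEq.respectTransparency false

universe u

open CategoryTheory AlgebraicGeometry TopologicalSpace Opposite DirectSum
open GrothLib.RelSpec (aff)

noncomputable section

namespace GrothLib.ProjQ8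

variable {S : Scheme.{u}} (𝒮 : RelProj.QCGrAlg S)

/-- Restriction of sections of the algebra. -/
abbrev resA {U V : S.Opens} (h : V ≤ U) : 𝒮.presheaf.obj (op U) →+* 𝒮.presheaf.obj (op V) :=
  (𝒮.presheaf.map (homOfLE h).op).hom

/-- The structure map of the algebra. -/
abbrev strA (U : S.Opens) : Γ(S, U) →+* 𝒮.presheaf.obj (op U) := (𝒮.str.app (op U)).hom

theorem resA_resA {U V W : S.Opens} (h : V ≤ U) (h' : W ≤ V) (a : 𝒮.presheaf.obj (op U)) :
    resA 𝒮 h' (resA 𝒮 h a) = resA 𝒮 (h'.trans h) a := by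
  rw [← CommRingCat.comp_apply, ← 𝒮.presheaf.map_comp]
  rfl

theorem resA_self {U : S.Opens} (a : 𝒮.presheaf.obj (op U)) : resA 𝒮 (le_refl U) a = a := by
  show (𝒮.presheaf.map (𝟙 (op U))).hom a = a
  rw [CategoryTheory.Functor.map_id]
  rfl

theorem resA_strA {U V : S.Opens} (h : V ≤ U) (r : Γ(S, U)) :
    resA 𝒮 h (strA 𝒮 U r) = strA 𝒮 V ((S.presheaf.map (homOfLE h).op).hom r) := by
  rw [← CommRingCat.comp_apply, ← 𝒮.str.naturality]
  rfl

variable (K : ∀ (U : S.Opens), IsAffineOpen U → Ideal (𝒮.presheaf.obj (op U)))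

/-- Ideals on the affine opens compatible with restriction to basic opens and with localisation. -/
structure IsCompat : Prop where
  homogeneous : ∀ U hU, (K U hU).IsHomogeneous (𝒮.deg U hU)
  res : ∀ (U : S.Opens) (hU : IsAffineOpen U) (s : Γ(S, U)) (a : 𝒮.presheaf.obj (op U)),
    a ∈ K U hU → resA 𝒮 (S.basicOpen_le s) a ∈ K _ (hU.basicOpen s)
  kill : ∀ (U : S.Opens) (hU : IsAffineOpen U) (s : Γ(S, U)) (n : ℕ) (a : 𝒮.presheaf.obj (op U)),
    a ∈ 𝒮.deg U hU n → resA 𝒮 (S.basicOpen_le s) a ∈ K _ (hU.basicOpen s) →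
      ∃ k : ℕ, strA 𝒮 U s ^ k * a ∈ K U hU

variable {𝒮 K}

theorem IsCompat.res_le (hK : IsCompat 𝒮 K) {U V : S.AffineZariskiSite} (h : V ≤ U) :
    K U.1 U.2 ≤ (K V.1 V.2).comap (resA 𝒮 (Scheme.AffineZariskiSite.toOpens_mono h)) := by
  obtain ⟨V, hV⟩ := V
  obtain ⟨r, hr⟩ := id h
  obtain rfl : S.basicOpen r = V := hr
  exact fun a ha => hK.res U.1 U.2 r a ha

theorem IsCompat.exists_kill (hK : IsCompat 𝒮 K) (U : S.Opens) (hU : IsAffineOpen U) (s : Γ(S, U))
    (a : 𝒮.presheaf.obj (op U)) (ha : resA 𝒮 (S.basicOpen_le s) a ∈ K _ (hU.basicOpen s)) :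
    ∃ k : ℕ, strA 𝒮 U s ^ k * a ∈ K U hU := by
  classical
  have hcomp : ∀ n, resA 𝒮 (S.basicOpen_le s) (decompose (𝒮.deg U hU) a n) ∈ K _ (hU.basicOpen s) := fun n => by
    have := hK.homogeneous _ (hU.basicOpen s) n ha
    rwa [show resA 𝒮 (S.basicOpen_le s) a = 𝒮.res hU (hU.basicOpen s) (S.basicOpen_le s) a from rfl,
      ← GradedRingHom.map_directSumDecompose] at this
  choose k hk using fun n => hK.kill U hU s n _ (SetLike.coe_mem _) (hcomp n)
  refine ⟨(DFinsupp.support (decompose (𝒮.deg U hU) a)).sup k, ?_⟩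
  conv => arg 2; arg 2; rw [← DirectSum.sum_support_decompose (𝒮.deg U hU) a]
  rw [Finset.mul_sum]
  refine sum_mem fun n hn => ?_
  obtain ⟨m, hm⟩ := Nat.exists_eq_add_of_le (Finset.le_sup (f := k) hn)
  rw [hm, pow_add, mul_comm (_ ^ k n), mul_assoc]
  exact Ideal.mul_mem_left _ _ (hk n)

variable (K) in
/-- The quotient rings over the affine opens. -/
def quotFunctor (hK : IsCompat 𝒮 K) : S.AffineZariskiSiteᵒᵖ ⥤ CommRingCat.{u} where
  obj U := CommRingCat.of (𝒮.presheaf.obj (op U.unop.1) ⧸ K U.unop.1 U.unop.2)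
  map {U V} i := CommRingCat.ofHom (Ideal.quotientMap (K V.unop.1 V.unop.2)
    (resA 𝒮 (leOfHom ((aff S).map i.unop))) (hK.res_le (leOfHom i.unop)))
  map_id U := CommRingCat.hom_ext (Ideal.Quotient.ringHom_ext (RingHom.ext fun a =>
    congrArg (Ideal.Quotient.mk _) (resA_self 𝒮 a)))
  map_comp {U V W} i k := CommRingCat.hom_ext (Ideal.Quotient.ringHom_ext (RingHom.ext fun a =>
    congrArg (Ideal.Quotient.mk _) (resA_resA 𝒮 (leOfHom ((aff S).map i.unop)) (leOfHom ((aff S).map k.unop)) a).symm))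

/-- The structure maps of the quotient rings. -/
def quotStr (hK : IsCompat 𝒮 K) : (aff S).op ⋙ S.presheaf ⟶ quotFunctor K hK where
  app U := CommRingCat.ofHom ((Ideal.Quotient.mk (K U.unop.1 U.unop.2)).comp (strA 𝒮 U.unop.1))
  naturality U V i := CommRingCat.hom_ext (RingHom.ext fun r =>
    congrArg (Ideal.Quotient.mk _) (resA_strA 𝒮 (leOfHom ((aff S).map i.unop)) r).symm)

theorem quotStr_coequifibered (hK : IsCompat 𝒮 K) : (quotStr hK).Coequifibered := by
  refine Scheme.AffineZariskiSite.coequifibered_iff_forall_isLocalizationAway.mpr fun U r => ?_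
  have hloc := 𝒮.isQC U.1 U.2 r
  letI := (resA 𝒮 (S.basicOpen_le r)).toAlgebra
  haveI : IsLocalization.Away (strA 𝒮 U.1 r) (𝒮.presheaf.obj (op (S.basicOpen r))) := hloc
  let q := Ideal.quotientMap (K (S.basicOpen r) (U.2.basicOpen r)) (resA 𝒮 (S.basicOpen_le r))
    (fun a ha => hK.res U.1 U.2 r a ha)
  letI : Algebra (𝒮.presheaf.obj (op U.1) ⧸ K U.1 U.2)
    (𝒮.presheaf.obj (op (S.basicOpen r)) ⧸ K (S.basicOpen r) (U.2.basicOpen r)) := q.toAlgebra
  show IsLocalization.Away (Ideal.Quotient.mk (K U.1 U.2) (strA 𝒮 U.1 r))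
    (𝒮.presheaf.obj (op (S.basicOpen r)) ⧸ K (S.basicOpen r) (U.2.basicOpen r))
  refine IsLocalization.Away.mk _ ?_ ?_ ?_
  · exact (IsLocalization.Away.algebraMap_isUnit (S := 𝒮.presheaf.obj (op (S.basicOpen r))) (strA 𝒮 U.1 r)).map
      (Ideal.Quotient.mk (K _ (U.2.basicOpen r)))
  · intro z
    obtain ⟨z, rfl⟩ := Ideal.Quotient.mk_surjective z
    obtain ⟨n, a, ha⟩ := IsLocalization.Away.surj (strA 𝒮 U.1 r) z
    exact ⟨n, Ideal.Quotient.mk _ a, by
      show Ideal.Quotient.mk _ z * q (Ideal.Quotient.mk _ (strA 𝒮 U.1 r)) ^ n = q (Ideal.Quotient.mk _ a)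
      rw [Ideal.quotientMap_mk, Ideal.quotientMap_mk, ← map_pow, ← map_mul]
      exact congrArg _ ha⟩
  · intro a b hab
    obtain ⟨a, rfl⟩ := Ideal.Quotient.mk_surjective a
    obtain ⟨b, rfl⟩ := Ideal.Quotient.mk_surjective b
    have h : q (Ideal.Quotient.mk _ a) = q (Ideal.Quotient.mk _ b) := hab
    rw [Ideal.quotientMap_mk, Ideal.quotientMap_mk, Ideal.Quotient.eq, ← map_sub] at h
    obtain ⟨k, hk⟩ := hK.exists_kill U.1 U.2 r _ h
    refine ⟨k, ?_⟩
    rw [← map_pow, ← map_mul, ← map_mul, Ideal.Quotient.eq, ← mul_sub]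
    exact hk

/-- The quotient of a quasi-coherent graded algebra by compatible homogeneous ideals. -/
theorem exists_quotient (hK : IsCompat 𝒮 K) :
    ∃ (𝒯 : RelProj.QCGrAlg S) (φ : 𝒮.toQCAlg ⟶ 𝒯.toQCAlg) (_ : RelProj.IsGradedHom φ),
      (∀ (U : S.Opens) (_ : IsAffineOpen U), Function.Surjective (φ.hom.app (op U)).hom) ∧
      (∀ (U : S.Opens) (hU : IsAffineOpen U), RingHom.ker (φ.hom.app (op U)).hom = K U hU) ∧
      (∀ (U : S.Opens) (hU : IsAffineOpen U) (n : ℕ) (t : 𝒯.presheaf.obj (op U)),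
        t ∈ 𝒯.deg U hU n ↔ ∃ a ∈ 𝒮.deg U hU n, (φ.hom.app (op U)).hom a = t) := by
  obtain ⟨A, i, hi⟩ := RelSpec.exists_qcAlg_of_coequifibered (quotFunctor K hK) (quotStr hK)
    (quotStr_coequifibered hK)
  let e : ∀ (U : S.Opens) (hU : IsAffineOpen U), (𝒮.presheaf.obj (op U) ⧸ K U hU) ≃+* A.presheaf.obj (op U) :=
    fun U hU => (i.app (op ⟨U, hU⟩)).commRingCatIsoToRingEquiv
  let ψ : ∀ (U : S.Opens), IsAffineOpen U → (𝒮.presheaf.obj (op U) →+* A.presheaf.obj (op U)) :=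
    fun U hU => (e U hU).toRingHom.comp (Ideal.Quotient.mk (K U hU))
  have hψs : ∀ (U : S.Opens) (hU : IsAffineOpen U) (r : Γ(S, U)),
      ψ U hU (strA 𝒮 U r) = (A.str.app (op U)).hom r := fun U hU r =>
    ConcreteCategory.congr_hom (NatTrans.congr_app hi (op ⟨U, hU⟩)) r
  have hbas : ∀ {U V : S.AffineZariskiSite} (h : V ≤ U) (x : 𝒮.presheaf.obj (op U.1)),
      ψ V.1 V.2 (resA 𝒮 (Scheme.AffineZariskiSite.toOpens_mono h) x) =
        (A.presheaf.map (homOfLE (Scheme.AffineZariskiSite.toOpens_mono h)).op).hom (ψ U.1 U.2 x) := fun {U V} h x =>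
    ConcreteCategory.congr_hom (i.hom.naturality (homOfLE h).op) (Ideal.Quotient.mk _ x)
  have hnat : ∀ (U V : S.Opens) (hU : IsAffineOpen U) (hV : IsAffineOpen V) (h : V ≤ U) (x : 𝒮.presheaf.obj (op U)),
      ψ V hV (resA 𝒮 h x) = (A.presheaf.map (homOfLE h).op).hom (ψ U hU x) := by
    intro U V hU hV h x
    choose g g' hgg hpg using fun p : V => exists_basicOpen_le_affine_inter hU hV p.1 ⟨h p.2, p.2⟩
    refine TopCat.Sheaf.eq_of_locally_eq' (⟨A.presheaf, A.isSheaf⟩ : TopCat.Sheaf CommRingCat.{u} S.carrier)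
      (fun p : V => S.basicOpen (g' p)) V (fun p => homOfLE (S.basicOpen_le _))
      (fun p hp => Opens.mem_iSup.mpr ⟨⟨p, hp⟩, hgg ⟨p, hp⟩ ▸ hpg ⟨p, hp⟩⟩) _ _ fun p => ?_
    let Wz : S.AffineZariskiSite := ⟨S.basicOpen (g' p), hV.basicOpen _⟩
    have hWU : Wz ≤ (⟨U, hU⟩ : S.AffineZariskiSite) := ⟨g p, hgg p⟩
    have hWV : Wz ≤ (⟨V, hV⟩ : S.AffineZariskiSite) := ⟨g' p, rfl⟩
    have n1 := hbas hWU x
    have n2 := hbas hWV (resA 𝒮 h x)
    rw [resA_resA] at n2
    refine n2.symm.trans (n1.trans ?_)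
    show _ = ((A.presheaf.map (homOfLE h).op) ≫ A.presheaf.map (homOfLE (S.basicOpen_le (g' p))).op).hom _
    rw [← A.presheaf.map_comp]
    rfl
  let deg : ∀ (U : S.Opens), IsAffineOpen U → ℕ → AddSubgroup (A.presheaf.obj (op U)) := fun U hU n =>
    (𝒮.deg U hU n).map (ψ U hU).toAddMonoidHom
  let grade : ∀ (U : S.Opens) (hU : IsAffineOpen U), GradedRing (deg U hU) := fun U hU =>
    letI gm : SetLike.GradedMonoid (deg U hU) :=
      { one_mem := ⟨1, SetLike.GradedOne.one_mem, map_one (ψ U hU)⟩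
        mul_mem := by
          rintro i j _ _ ⟨a, ha, rfl⟩ ⟨b, hb, rfl⟩
          exact ⟨a * b, SetLike.mul_mem_graded ha hb, map_mul (ψ U hU) a b⟩ }
    letI := (show DirectSum.IsInternal (deg U hU) by
      classical
      let ε : (DirectSum ℕ fun i => quotDeg (𝒮.deg U hU) (K U hU) i) →+ DirectSum ℕ fun i => deg U hU i :=
        DirectSum.map fun i => AddMonoidHom.mk' (fun a => ⟨e U hU a.1, by
          obtain ⟨x, hx, hxa⟩ := a.2
          exact ⟨x, hx, by rw [← hxa]; rfl⟩⟩) (fun a b => Subtype.ext (map_add _ _ _))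
      have hε : Function.Bijective ε := by
        refine ⟨(DirectSum.map_injective _).mpr fun i a b hab => Subtype.ext ((e U hU).injective (congrArg Subtype.val hab)),
          (DirectSum.map_surjective _).mpr fun i => ?_⟩
        rintro ⟨_, a, ha, rfl⟩
        exact ⟨⟨_, mk_mem_quotDeg _ _ ha⟩, rfl⟩
      have hcomp : (DirectSum.coeAddMonoidHom (deg U hU)).comp ε =
          (e U hU).toRingHom.toAddMonoidHom.comp (DirectSum.coeAddMonoidHom (quotDeg (𝒮.deg U hU) (K U hU))) :=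
        DirectSum.addHom_ext fun i a => by simp [ε]
      have hb : Function.Bijective ((DirectSum.coeAddMonoidHom (deg U hU)) ∘ ε) := by
        rw [← AddMonoidHom.coe_comp, hcomp]
        exact (e U hU).bijective.comp (isInternal_quotDeg _ (hK.homogeneous U hU))
      exact (Function.Bijective.of_comp_iff _ hε).mp hb).chooseDecomposition
    { gm, ‹DirectSum.Decomposition (deg U hU)› with }
  let 𝒯 : RelProj.QCGrAlg S :=
    { A with
      deg := deg
      graded := grade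
      map_mem := by
        rintro U V hU hV h d _ ⟨a, ha, rfl⟩
        exact ⟨resA 𝒮 h a, 𝒮.map_mem hU hV h ha, hnat U V hU hV h a⟩
      str_mem := fun U hU r => ⟨strA 𝒮 U r, 𝒮.str_mem U hU r, hψs U hU r⟩ }
  obtain ⟨φ, hφ⟩ := RelSpec.exists_algHom (A := 𝒮.toQCAlg) (B := 𝒯.toQCAlg) ψ hψs hnat
  refine ⟨𝒯, φ, fun U hU d x hx => ⟨x, hx, by rw [hφ U hU]; rfl⟩, fun U hU => ?_, fun U hU => ?_, fun U hU n t => ?_⟩
  · rw [hφ U hU]
    exact (e U hU).surjective.comp Ideal.Quotient.mk_surjective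
  · rw [hφ U hU]
    ext a
    rw [RingHom.mem_ker, ← Ideal.Quotient.eq_zero_iff_mem]
    exact map_eq_zero_iff _ (e U hU).injective
  · rw [hφ U hU]
    exact Iff.rfl

end GrothLib.ProjQ8
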