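import Groth.Agent.Lib.ProjQ8.Sections
import Groth.Agent.Lib.ProjQ8.QuotAlg
import Groth.Agent.Lib.RelProjK.OpenMap
import Groth.Agent.Lib.RelProjK.MapProps
import Groth.Agent.Lib.RelProjK.GlueProj
import Groth.Agent.Lib.RelProjK.Restrict
import Groth.Agent.Lib.RelProjK.FinType

/-!
# Closed subschemes of projective schemes are projective
-/

set_option autoImplicit false
set_option backward.isDefEq.respectTransparency false
set_option linter.style.haveILetI false

universe u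

open CategoryTheory CategoryTheory.Limits AlgebraicGeometry TopologicalSpace Opposite HomogeneousLocalization DirectSum
open scoped HomogeneousIdeal

noncomputable section

namespace GrothLib.ProjQ8

section affine

variable {A B : Type u} [CommRing A] [CommRing B] {𝒜 : ℕ → AddSubgroup A} [GradedRing 𝒜]
  {ℬ : ℕ → AddSubgroup B} [GradedRing ℬ]

theorem away_mk_zero {d : ℕ} {t : A} (ht : t ∈ 𝒜 d) (n : ℕ) :
    Away.mk 𝒜 ht n 0 (zero_mem _) = 0 := by
  ext
  simp [Localization.mk_zero]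

theorem away_mk_add {d : ℕ} {t : A} (ht : t ∈ 𝒜 d) (n : ℕ) (a b : A) (ha : a ∈ 𝒜 (n • d)) (hb : b ∈ 𝒜 (n • d)) :
    Away.mk 𝒜 ht n (a + b) (add_mem ha hb) = Away.mk 𝒜 ht n a ha + Away.mk 𝒜 ht n b hb := by
  ext
  simp only [val_add, Away.val_mk, Localization.add_mk_self]

theorem away_mk_mul {d : ℕ} {t : A} (ht : t ∈ 𝒜 d) (m n : ℕ) (a b : A) (ha : a ∈ 𝒜 (m • d)) (hb : b ∈ 𝒜 (n • d)) :
    Away.mk 𝒜 ht (m + n) (a * b) (by rw [add_smul]; exact SetLike.mul_mem_graded ha hb) =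
      Away.mk 𝒜 ht m a ha * Away.mk 𝒜 ht n b hb := by
  ext
  simp only [val_mul, Away.val_mk, Localization.mk_mul]
  congr 1
  ext
  simp [pow_add]

theorem away_mk_congr {d : ℕ} {t : A} (ht : t ∈ 𝒜 d) {n : ℕ} {a b : A} (e : a = b) (ha : a ∈ 𝒜 (n • d)) :
    Away.mk 𝒜 ht n a ha = Away.mk 𝒜 ht n b (e ▸ ha) := by
  subst e; rfl

theorem mem_nsmul_one {n : ℕ} {a : A} (ha : a ∈ 𝒜 n) : a ∈ 𝒜 (n • 1) := by
  rwa [nsmul_one, Nat.cast_id]

theorem irrelevant_le_map_of_surjective (ψ : 𝒜 →+*ᵍ ℬ) (hs : Function.Surjective ψ) :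
    ℬ₊ ≤ (𝒜₊).map ψ := by
  classical
  rw [HomogeneousIdeal.irrelevant_le]
  intro i hi b hb
  obtain ⟨a, rfl⟩ := hs b
  have e : ψ (decompose 𝒜 a i : A) = ψ a := by
    rw [GradedRingHom.map_directSumDecompose, decompose_of_mem_same ℬ hb]
  rw [← e]
  exact Ideal.mem_map_of_mem _ (HomogeneousIdeal.mem_irrelevant_of_mem 𝒜 hi (SetLike.coe_mem _))

theorem awayMap_mk_eq {e t : A} (he : e ∈ 𝒜 1) (ht : t ∈ 𝒜 1) {n : ℕ} {a : A} (ha : a ∈ 𝒜 (n • 1)) :
    awayMap 𝒜 ht (rfl : e * t = e * t) (Away.mk 𝒜 he n a ha) =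
      Away.mk 𝒜 (SetLike.mul_mem_graded he ht) n (t ^ n * t ^ n)
        (by rw [smul_add]; exact SetLike.mul_mem_graded (SetLike.pow_mem_graded n ht) (SetLike.pow_mem_graded n ht)) *
      awayMap 𝒜 he (mul_comm e t) (Away.mk 𝒜 ht n a ha) := by
  rw [awayMap_mk, awayMap_mk]
  ext
  simp only [val_mul, Away.val_mk, Localization.mk_mul]
  rw [Localization.mk_eq_mk_iff, Localization.r_iff_exists]
  exact ⟨1, by simp; ring⟩

theorem isLocalizationElem_pow_mul {e t : A} (he : e ∈ 𝒜 1) (ht : t ∈ 𝒜 1) (k : ℕ) {n : ℕ} {a : A}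
    (ha : a ∈ 𝒜 n) (hta : t ^ k * a ∈ 𝒜 (k + n)) :
    Away.mk 𝒜 he (k + n) (t ^ k * a) (mem_nsmul_one hta) =
      Away.isLocalizationElem he ht ^ k * Away.mk 𝒜 he n a (mem_nsmul_one ha) := by
  ext
  rw [val_mul, val_pow, Away.val_mk, Away.val_mk, Away.val_mk, Localization.mk_pow, Localization.mk_mul]
  rw [Localization.mk_eq_mk_iff, Localization.r_iff_exists]
  exact ⟨1, by simp; ring⟩

theorem fromZero_pow_mul {t : A} (ht : t ∈ 𝒜 1) (c : 𝒜 0) (k : ℕ) {n : ℕ} {a : A} (ha : a ∈ 𝒜 n)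
    (hca : (c : A) ^ k * a ∈ 𝒜 n) :
    Away.mk 𝒜 ht n ((c : A) ^ k * a) (mem_nsmul_one hca) =
      fromZeroRingHom 𝒜 (Submonoid.powers t) c ^ k * Away.mk 𝒜 ht n a (mem_nsmul_one ha) := by
  ext
  simp only [val_mul, val_pow, Away.val_mk, fromZeroRingHom, RingHom.coe_mk, MonoidHom.coe_mk,
    OneHom.coe_mk, val_mk, Localization.mk_pow, Localization.mk_mul]
  rw [Localization.mk_eq_mk_iff, Localization.r_iff_exists]
  exact ⟨1, by simp⟩

theorem iSup_basicOpen_eq_top {G : Set A} (hG : (𝒜₊).toIdeal ≤ Ideal.span G) :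
    ⨆ t : G, Proj.basicOpen 𝒜 (t : A) = ⊤ :=
  Proj.iSup_basicOpen_eq_top 𝒜 _ (hG.trans (Ideal.span_mono fun x hx => ⟨⟨x, hx⟩, rfl⟩))

end affine

variable {S P X : Scheme.{u}} {𝒮 : RelProj.QCGrAlg S} {p : P ⟶ S}
  {chart : ∀ (U : S.Opens) (hU : IsAffineOpen U), (((p ⁻¹ᵁ U : P.Opens) : Scheme.{u}) ≅ Proj (𝒮.deg U hU))}
  (r : X ⟶ P) [IsClosedImmersion r]

variable (p chart) in
/-- The chart of a homogeneous element over an affine open. -/
abbrev achart (U : S.Opens) (hU : IsAffineOpen U) {d : ℕ} {t : 𝒮.presheaf.obj (op U)}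
    (ht : t ∈ 𝒮.deg U hU d) (hd : 0 < d) : Spec (CommRingCat.of (Away (𝒮.deg U hU) t)) ⟶ P :=
  Proj.awayι (𝒮.deg U hU) t ht hd ≫ RelProj.emb p chart U hU

variable (p chart) in
/-- A fraction restricted to the closed subscheme. -/
abbrev fsec (U : S.Opens) (hU : IsAffineOpen U) {t : 𝒮.presheaf.obj (op U)} (ht : t ∈ 𝒮.deg U hU 1) (n : ℕ)
    {a : 𝒮.presheaf.obj (op U)} (ha : a ∈ 𝒮.deg U hU n) :
    Γ(pullback r (achart p chart U hU ht one_pos), ⊤) :=
  sec r (achart p chart U hU ht one_pos) (Away.mk (𝒮.deg U hU) ht n a (mem_nsmul_one ha))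

variable (p chart) in
/-- The homogeneous equations of a given degree of the closed subscheme. -/
def eqDeg (U : S.Opens) (hU : IsAffineOpen U) (n : ℕ) : AddSubgroup (𝒮.presheaf.obj (op U)) where
  carrier := {a | ∃ ha : a ∈ 𝒮.deg U hU n, ∀ (t : 𝒮.presheaf.obj (op U)) (ht : t ∈ 𝒮.deg U hU 1),
    fsec p chart r U hU ht n ha = 0}
  zero_mem' := ⟨zero_mem _, fun t ht => by rw [fsec, away_mk_zero, map_zero]⟩
  add_mem' := by
    rintro a b ⟨ha, ha'⟩ ⟨hb, hb'⟩
    refine ⟨add_mem ha hb, fun t ht => ?_⟩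
    rw [fsec, away_mk_add ht n a b (mem_nsmul_one ha) (mem_nsmul_one hb), map_add]
    exact (congrArg₂ (· + ·) (ha' t ht) (hb' t ht)).trans (add_zero 0)
  neg_mem' := by
    rintro a ⟨ha, ha'⟩
    refine ⟨neg_mem ha, fun t ht => ?_⟩
    have e := away_mk_add ht n a (-a) (mem_nsmul_one ha) (mem_nsmul_one (neg_mem ha))
    rw [away_mk_congr ht (add_neg_cancel a), away_mk_zero] at e
    have := congrArg (sec r (achart p chart U hU ht one_pos)) e
    rw [map_zero, map_add, show sec r (achart p chart U hU ht one_pos) (Away.mk (𝒮.deg U hU) ht n a _) = 0 from ha' t ht,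
      zero_add] at this
    exact this.symm

theorem eqDeg_mul (U : S.Opens) (hU : IsAffineOpen U) (m n : ℕ) (c a : 𝒮.presheaf.obj (op U))
    (hc : c ∈ 𝒮.deg U hU m) (_ : a ∈ 𝒮.deg U hU n) (h : a ∈ eqDeg p chart r U hU n) :
    c * a ∈ eqDeg p chart r U hU (m + n) := by
  obtain ⟨ha, ha'⟩ := h
  refine ⟨SetLike.mul_mem_graded hc ha, fun t ht => ?_⟩
  rw [fsec, away_mk_mul ht m n c a (mem_nsmul_one hc) (mem_nsmul_one ha), map_mul]
  exact (congrArg (_ * ·) (ha' t ht)).trans (mul_zero _)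

variable (p chart) in
/-- The homogeneous ideal of the closed subscheme. -/
def eqIdeal (U : S.Opens) (hU : IsAffineOpen U) : Ideal (𝒮.presheaf.obj (op U)) :=
  idealOfPieces (𝒮.deg U hU) (eqDeg p chart r U hU) (eqDeg_mul r U hU)

/-- It suffices to test equations on elements whose basic opens cover. -/
theorem mem_eqDeg_of_cover (U : S.Opens) (hU : IsAffineOpen U) {n : ℕ} {a : 𝒮.presheaf.obj (op U)}
    (ha : a ∈ 𝒮.deg U hU n) (G : Set (𝒮.presheaf.obj (op U))) (hG1 : ∀ t ∈ G, t ∈ 𝒮.deg U hU 1)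
    (hG : ((𝒮.deg U hU)₊).toIdeal ≤ Ideal.span G)
    (h : ∀ (t : 𝒮.presheaf.obj (op U)) (ht : t ∈ G), fsec p chart r U hU (hG1 t ht) n ha = 0) :
    a ∈ eqDeg p chart r U hU n := by
  refine ⟨ha, fun e he => ?_⟩
  let 𝒜 := 𝒮.deg U hU
  let f : ∀ t : G, CommRingCat.of (Away 𝒜 e) ⟶ CommRingCat.of (Away 𝒜 (e * t.1)) := fun t =>
    CommRingCat.ofHom (awayMap 𝒜 (hG1 t.1 t.2) rfl)
  have het : ∀ t : G, e * t.1 ∈ 𝒜 (1 + 1) := fun t => SetLike.mul_mem_graded he (hG1 t.1 t.2)
  have hf : ∀ t : G, Spec.map (f t) ≫ achart p chart U hU he one_pos =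
      achart p chart U hU (het t) (Nat.succ_pos 1) := fun t => by
    simp only [achart, f]
    rw [Proj.SpecMap_awayMap_awayι_assoc]
  haveI : ∀ t : G, IsOpenImmersion (Spec.map (f t)) := fun t => by
    haveI : IsOpenImmersion (Spec.map (f t) ≫ Proj.awayι 𝒜 e he one_pos) := by
      simp only [f]
      rw [Proj.SpecMap_awayMap_awayι]
      infer_instance
    exact IsOpenImmersion.of_comp _ (Proj.awayι 𝒜 e he one_pos)
  haveI := fun t : G => isOpenImmersion_secMap (i := r) (f t) (hf t)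
  refine eq_zero_of_cover (fun t : G => secMap (i := r) (f t) (hf t)) (fun z => ?_) _ fun t => ?_
  · have hz : Proj.awayι 𝒜 e he one_pos (pullback.snd r _ z) ∈ ⨆ t : G, Proj.basicOpen 𝒜 (t : 𝒮.presheaf.obj (op U)) := by
      rw [iSup_basicOpen_eq_top hG]; trivial
    obtain ⟨t, ht⟩ := Opens.mem_iSup.mp hz
    refine ⟨t, ?_⟩
    rw [range_secMap, Set.mem_preimage]
    have h2 : Proj.awayι 𝒜 e he one_pos (pullback.snd r _ z) ∈
        (Proj.awayι 𝒜 (e * t.1) (het t) (Nat.succ_pos 1)).opensRange := by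
      rw [Proj.opensRange_awayι, Proj.basicOpen_mul]
      refine ⟨?_, ht⟩
      rw [← Proj.opensRange_awayι 𝒜 e he one_pos]
      exact ⟨_, rfl⟩
    obtain ⟨y, hy⟩ := h2
    refine ⟨y, (Proj.awayι 𝒜 e he one_pos).isOpenEmbedding.injective ?_⟩
    rw [← Scheme.Hom.comp_apply]
    simp only [f]
    rw [Proj.SpecMap_awayMap_awayι]
    exact hy
  · rw [secMap_sec]
    let g : CommRingCat.of (Away 𝒜 t.1) ⟶ CommRingCat.of (Away 𝒜 (e * t.1)) :=
      CommRingCat.ofHom (awayMap 𝒜 he (mul_comm e t.1))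
    have hg : Spec.map g ≫ achart p chart U hU (hG1 t.1 t.2) one_pos =
        achart p chart U hU (het t) (Nat.succ_pos 1) := by
      simp only [achart, g]
      rw [Proj.SpecMap_awayMap_awayι_assoc]
    refine (congrArg (sec r (achart p chart U hU (het t) (Nat.succ_pos 1)))
      (awayMap_mk_eq he (hG1 t.1 t.2) (mem_nsmul_one ha))).trans ?_
    rw [map_mul, show sec r (achart p chart U hU (het t) (Nat.succ_pos 1))
        (awayMap 𝒜 he (mul_comm e t.1) (Away.mk 𝒜 (hG1 t.1 t.2) n a (mem_nsmul_one ha))) = 0 from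
      (secMap_sec (i := r) g hg _).symm.trans ((congrArg _ (h t.1 t.2)).trans (map_zero _)), mul_zero]

section Projective

variable (hP : RelProj.IsRelProj 𝒮 p chart) (hgen : 𝒮.IsGenDegOne)

include hgen in
theorem span_deg_one (U : S.Opens) (hU : IsAffineOpen U) :
    ((𝒮.deg U hU)₊).toIdeal ≤ Ideal.span (𝒮.deg U hU 1 : Set (𝒮.presheaf.obj (op U))) :=
  RelProjK.irrelevant_le_span_deg_one _ (hgen U hU)

include hP in
theorem achart_res (U : S.Opens) (hU : IsAffineOpen U) (s : Γ(S, U)) {d : ℕ} {t : 𝒮.presheaf.obj (op U)}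
    (ht : t ∈ 𝒮.deg U hU d) (hd : 0 < d) :
    Spec.map (CommRingCat.ofHom (Away.map (𝒮.res hU (hU.basicOpen s) (S.basicOpen_le s)) t)) ≫
        achart p chart U hU ht hd =
      achart p chart (S.basicOpen s) (hU.basicOpen s) (𝒮.map_mem hU (hU.basicOpen s) (S.basicOpen_le s) ht) hd := by
  simp only [achart]
  rw [← RelProj.map_res_emb hP U hU s, ← Category.assoc, ← Category.assoc,
    ← Proj.awayι_comp_map (𝒮.res hU (hU.basicOpen s) (S.basicOpen_le s)) (𝒮.irrelevant_le_map U hU s) hd t ht]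
  rfl

include hP hgen in
theorem isCompat_eqIdeal (hft : 𝒮.IsFTDeg 1) : IsCompat 𝒮 (eqIdeal p chart r) where
  homogeneous U hU := idealOfPieces_isHomogeneous _ _ _
  res U hU s a ha := by
    classical
    let ψ := 𝒮.res hU (hU.basicOpen s) (S.basicOpen_le s)
    refine (mem_idealOfPieces _).mpr fun n => ?_
    show (decompose (𝒮.deg _ (hU.basicOpen s)) (ψ a) n : 𝒮.presheaf.obj (op (S.basicOpen s))) ∈ _
    rw [← GradedRingHom.map_directSumDecompose]
    obtain ⟨hb, hb'⟩ := (mem_idealOfPieces _).mp ha n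
    refine mem_eqDeg_of_cover r _ (hU.basicOpen s) (ψ.map_mem hb) (ψ '' (𝒮.deg U hU 1 : Set _))
      (by rintro _ ⟨t, ht, rfl⟩; exact ψ.map_mem ht) ?_ ?_
    · refine le_trans (toIdeal_le_toIdeal_iff.mpr (𝒮.irrelevant_le_map U hU s)) ?_
      show Ideal.map ψ _ ≤ _
      refine (Ideal.map_mono (span_deg_one hgen U hU)).trans ?_
      rw [Ideal.map_span]
    · rintro _ ⟨t, ht, rfl⟩
      have e := secMap_sec (i := r) _ (achart_res hP U hU s ht one_pos)
        (Away.mk (𝒮.deg U hU) ht n _ (mem_nsmul_one hb))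
      rw [show sec r (achart p chart U hU ht one_pos) _ = 0 from hb' t ht, map_zero] at e
      refine Eq.trans (congrArg (sec r _) ?_) e.symm
      rw [CommRingCat.hom_ofHom, Away.map_mk]
  kill U hU s n a ha hres := by
    classical
    let ψ := 𝒮.res hU (hU.basicOpen s) (S.basicOpen_le s)
    let c := strA 𝒮 U s
    have hc : c ∈ 𝒮.deg U hU 0 := 𝒮.str_mem U hU s
    have hloc : letI := ψ.toRingHom.toAlgebra; IsLocalization.Away c (𝒮.presheaf.obj (op (S.basicOpen s))) :=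
      𝒮.isQC U hU s
    obtain ⟨T, hT1, hT⟩ := hft U hU
    obtain ⟨hψa, hψ'⟩ := (mem_idealOfPieces_of_mem _ (ψ.map_mem ha)).mp hres
    have hk : ∀ t : T, ∃ k : ℕ, sec r (achart p chart U hU (hT1 t.2) one_pos)
        (fromZeroRingHom (𝒮.deg U hU) _ ⟨c, hc⟩ ^ k * Away.mk (𝒮.deg U hU) (hT1 t.2) n a (mem_nsmul_one ha)) = 0 := by
      intro t
      obtain ⟨ho, hr⟩ := RelProjK.isOpenImmersion_specMap_away ψ c hc hloc (hT1 t.2)
      haveI := ho
      refine exists_pow_kill (i := r) _ (achart_res hP U hU s (hT1 t.2) one_pos) _ hr _ ?_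
      refine Eq.trans (congrArg (sec r _) ?_) (hψ' (ψ t.1) (ψ.map_mem (hT1 t.2)))
      rw [CommRingCat.hom_ofHom, Away.map_mk]
      rfl
    choose k hk using hk
    refine ⟨Finset.univ.sup k, ?_⟩
    have hmem : c ^ Finset.univ.sup k * a ∈ 𝒮.deg U hU n := by
      simpa using SetLike.mul_mem_graded (SetLike.pow_mem_graded (Finset.univ.sup k) hc) ha
    refine (mem_idealOfPieces_of_mem _ hmem).mpr ?_
    refine mem_eqDeg_of_cover r U hU hmem (T : Set _) (fun t ht => hT1 ht) ?_ fun t ht => ?_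
    · refine (span_deg_one hgen U hU).trans (Ideal.span_le.mpr fun x hx => ?_)
      obtain ⟨w, rfl⟩ := hT x hx
      exact sum_mem fun t ht => Ideal.mul_mem_left _ _ (Ideal.subset_span ht)
    · obtain ⟨m, hm⟩ := Nat.exists_eq_add_of_le (Finset.le_sup (f := k) (Finset.mem_univ (⟨t, ht⟩ : T)))
      have e : Away.mk (𝒮.deg U hU) (hT1 ht) n (c ^ Finset.univ.sup k * a) (mem_nsmul_one hmem) =
          fromZeroRingHom (𝒮.deg U hU) (Submonoid.powers t) ⟨c, hc⟩ ^ m *
            (fromZeroRingHom (𝒮.deg U hU) (Submonoid.powers t) ⟨c, hc⟩ ^ k ⟨t, ht⟩ *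
              Away.mk (𝒮.deg U hU) (hT1 ht) n a (mem_nsmul_one ha)) := by
        rw [← mul_assoc, ← pow_add, add_comm m, ← hm]
        exact fromZero_pow_mul (hT1 ht) ⟨c, hc⟩ _ ha hmem
      show sec r _ _ = 0
      rw [e, map_mul]
      exact (congrArg (_ * ·) (hk ⟨t, ht⟩)).trans (mul_zero _)

include hP hgen in
/-- A closed subscheme of the relative Proj of a graded algebra generated by a finite type degree one part is the
relative Proj of a graded quotient algebra. -/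
theorem exists_quotient_model (hft : 𝒮.IsFTDeg 1) :
    ∃ (𝒯 : RelProj.QCGrAlg S) (φ : 𝒮.toQCAlg ⟶ 𝒯.toQCAlg) (hφ : RelProj.IsGradedHom φ)
      (hirr : ∀ (U : S.Opens) (hU : IsAffineOpen U),
        (𝒯.deg U hU)₊ ≤ ((𝒮.deg U hU)₊).map (RelProj.gradedHomAt φ hφ U hU))
      (Q : Scheme.{u}) (q : Q ⟶ S)
      (chartT : ∀ (U : S.Opens) (hU : IsAffineOpen U), ((q ⁻¹ᵁ U : Q.Opens) : Scheme.{u}) ≅ Proj (𝒯.deg U hU))
      (h : Q ⟶ P) (e : X ≅ Q),
      (∀ (U : S.Opens) (_ : IsAffineOpen U), Function.Surjective (φ.hom.app (op U)).hom) ∧ 𝒯.IsGenDegOne ∧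
        𝒯.IsFTDeg 1 ∧ RelProj.IsRelProj 𝒯 q chartT ∧ RelProj.IsRelProjMap φ hφ hirr chart chartT h ∧
        e.hom ≫ h = r := by
  classical
  obtain ⟨𝒯, φ, hφ, hsurj, hker, hdeg⟩ := exists_quotient (isCompat_eqIdeal r hP hgen hft)
  let γ : ∀ (U : S.Opens) (hU : IsAffineOpen U), 𝒮.deg U hU →+*ᵍ 𝒯.deg U hU := RelProj.gradedHomAt φ hφ
  have hirr : ∀ (U : S.Opens) (hU : IsAffineOpen U), (𝒯.deg U hU)₊ ≤ ((𝒮.deg U hU)₊).map (γ U hU) :=
    fun U hU => irrelevant_le_map_of_surjective _ (hsurj U hU)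
  have hgenT : 𝒯.IsGenDegOne := fun U hU => by
    rw [eq_top_iff]
    intro x _
    obtain ⟨a, rfl⟩ := hsurj U hU x
    have h : a ∈ (Subring.closure ((𝒯.deg U hU 0 : Set _) ∪ (𝒯.deg U hU 1 : Set _))).comap (φ.hom.app (op U)).hom :=
      (Subring.closure_le (t := Subring.comap (φ.hom.app (op U)).hom _)).mpr (by
        rintro y (hy | hy)
        · exact Subring.subset_closure (Or.inl ((hdeg U hU 0 _).mpr ⟨y, hy, rfl⟩))
        · exact Subring.subset_closure (Or.inr ((hdeg U hU 1 _).mpr ⟨y, hy, rfl⟩))) ((hgen U hU).ge (Subring.mem_top a))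
    exact h
  have hftT : 𝒯.IsFTDeg 1 := fun U hU => by
    obtain ⟨T, hT1, hT⟩ := hft U hU
    let φU := (φ.hom.app (op U)).hom
    refine ⟨T.image φU, fun x hx => ?_, fun x hx => ?_⟩
    · obtain ⟨t, ht, rfl⟩ := Finset.mem_image.mp hx
      exact (hdeg U hU 1 _).mpr ⟨t, hT1 ht, rfl⟩
    · obtain ⟨a, ha, rfl⟩ := (hdeg U hU 1 x).mp hx
      obtain ⟨c, hc⟩ := hT a ha
      refine ⟨fun x => ∑ t ∈ T.filter (fun t => φU t = x), c t, ?_⟩
      have hstr : ∀ w, φU ((𝒮.str.app (op U)).hom w) = (𝒯.str.app (op U)).hom w := fun w =>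
        ConcreteCategory.congr_hom (NatTrans.congr_app φ.comm (op U)) w
      show φU a = ∑ x ∈ T.image φU, (𝒯.str.app (op U)).hom (∑ t ∈ T.filter (fun t => φU t = x), c t) * x
      conv_lhs => rw [hc, map_sum]
      rw [← Finset.sum_fiberwise_of_maps_to (g := φU) (t := T.image φU) (fun t ht => Finset.mem_image_of_mem _ ht)]
      refine Finset.sum_congr rfl fun x _ => ?_
      rw [map_sum, Finset.sum_mul]
      refine Finset.sum_congr rfl fun t ht => ?_
      rw [map_mul, hstr, (Finset.mem_filter.mp ht).2]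
  let q := RelProjK.projπ 𝒯
  let chartT := RelProjK.projChart 𝒯
  have hQ : RelProj.IsRelProj 𝒯 q chartT := RelProjK.isRelProj_proj 𝒯
  obtain ⟨h, hh, -⟩ := RelProjK.isRelProjMap_existsUnique φ hφ hirr hP hQ
  have hhp : h ≫ p = q := RelProjK.relProjMap_comp hP hQ hh
  haveI : IsClosedImmersion h := RelProjK.property_relProjMap @IsClosedImmersion hP hQ hh fun U hU =>
    RelProjK.isClosedImmersion_map_of_surjective (γ U hU) (hirr U hU) (hsurj U hU)
  have hcomp : ∀ (U : S.Opens) (hU : IsAffineOpen U) (t : 𝒮.presheaf.obj (op U)) (ht : t ∈ 𝒮.deg U hU 1),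
      r.ker.comap (achart p chart U hU ht one_pos) = h.ker.comap (achart p chart U hU ht one_pos) := by
    intro U hU t ht
    have H0 : IsPullback (RelProj.emb q chartT U hU) (Proj.map (γ U hU) (hirr U hU)) h (RelProj.emb p chart U hU) := by
      refine (IsOpenImmersion.isPullback _ _ _ _ ?_ ?_).flip
      · rw [RelProj.emb, Category.assoc, hh U hU, Iso.inv_hom_id_assoc]
        rfl
      · rw [RelProjK.opensRange_emb, RelProjK.opensRange_emb, ← Scheme.Hom.comp_preimage, hhp]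
    have H := (RelProjK.isPullback_awayι_map (γ U hU) (hirr U hU) one_pos ht).paste_horiz H0
    refine comap_ker_eq (i := r) _ h H ?_
    ext z
    obtain ⟨n, a, ha, rfl⟩ := Away.mk_surjective (𝒮.deg U hU) ht z
    have ha' : a ∈ 𝒮.deg U hU n := by simpa using ha
    rw [RingHom.mem_ker, RingHom.mem_ker, CommRingCat.hom_ofHom, Away.map_mk]
    constructor
    · intro hz
      obtain ⟨T, hT1, hT⟩ := hft U hU
      let 𝒜 := 𝒮.deg U hU
      have hk : ∀ e : T, ∃ k : ℕ, sec r (achart p chart U hU (hT1 e.2) one_pos)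
          (Away.isLocalizationElem (hT1 e.2) ht ^ k * Away.mk 𝒜 (hT1 e.2) n a (mem_nsmul_one ha')) = 0 := by
        intro e
        have he : e.1 ∈ 𝒜 1 := hT1 e.2
        let f₁ : CommRingCat.of (Away 𝒜 e.1) ⟶ CommRingCat.of (Away 𝒜 (e.1 * t)) :=
          CommRingCat.ofHom (awayMap 𝒜 ht rfl)
        let f₂ : CommRingCat.of (Away 𝒜 t) ⟶ CommRingCat.of (Away 𝒜 (e.1 * t)) :=
          CommRingCat.ofHom (awayMap 𝒜 he (mul_comm e.1 t))
        have het : e.1 * t ∈ 𝒜 (1 + 1) := SetLike.mul_mem_graded he ht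
        have hf₁ : Spec.map f₁ ≫ achart p chart U hU he one_pos = achart p chart U hU het (Nat.succ_pos 1) := by
          simp only [achart, f₁]
          rw [Proj.SpecMap_awayMap_awayι_assoc]
        have hf₂ : Spec.map f₂ ≫ achart p chart U hU ht one_pos = achart p chart U hU het (Nat.succ_pos 1) := by
          simp only [achart, f₂]
          rw [Proj.SpecMap_awayMap_awayι_assoc]
        haveI : IsOpenImmersion (Spec.map f₁) := by
          haveI : IsOpenImmersion (Spec.map f₁ ≫ Proj.awayι 𝒜 e.1 he one_pos) := by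
            simp only [f₁]
            rw [Proj.SpecMap_awayMap_awayι]
            infer_instance
          exact IsOpenImmersion.of_comp _ (Proj.awayι 𝒜 e.1 he one_pos)
        refine exists_pow_kill (i := r) f₁ hf₁ (Away.isLocalizationElem he ht) (by
          letI := (awayMap 𝒜 ht (rfl : e.1 * t = e.1 * t)).toAlgebra
          haveI := Away.isLocalization_mul he ht (rfl : e.1 * t = e.1 * t) one_ne_zero
          exact PrimeSpectrum.localization_away_comap_range _ _) _ ?_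
        refine (congrArg (sec r (achart p chart U hU het (Nat.succ_pos 1)))
          (awayMap_mk_eq he ht (mem_nsmul_one ha'))).trans ?_
        rw [map_mul, show sec r (achart p chart U hU het (Nat.succ_pos 1))
            (awayMap 𝒜 he (mul_comm e.1 t) (Away.mk 𝒜 ht n a (mem_nsmul_one ha'))) = 0 from
          (secMap_sec (i := r) f₂ hf₂ _).symm.trans ((congrArg _ hz).trans (map_zero _)), mul_zero]
      choose k hk using hk
      let K := Finset.univ.sup k
      have hta : t ^ K * a ∈ 𝒜 (K + n) :=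
        SetLike.mul_mem_graded (by simpa using SetLike.pow_mem_graded K ht) ha'
      have hmem : t ^ K * a ∈ eqDeg p chart r U hU (K + n) := by
        refine mem_eqDeg_of_cover r U hU hta (T : Set _) (fun e he => hT1 he) ?_ fun e he => ?_
        · refine (span_deg_one hgen U hU).trans (Ideal.span_le.mpr fun x hx => ?_)
          obtain ⟨w, rfl⟩ := hT x hx
          exact sum_mem fun t ht => Ideal.mul_mem_left _ _ (Ideal.subset_span ht)
        · obtain ⟨m, hm⟩ := Nat.exists_eq_add_of_le (Finset.le_sup (f := k) (Finset.mem_univ (⟨e, he⟩ : T)))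
          have e' : Away.mk 𝒜 (hT1 he) (K + n) (t ^ K * a) (mem_nsmul_one hta) =
              Away.isLocalizationElem (hT1 he) ht ^ m *
                (Away.isLocalizationElem (hT1 he) ht ^ k ⟨e, he⟩ * Away.mk 𝒜 (hT1 he) n a (mem_nsmul_one ha')) := by
            rw [← mul_assoc, ← pow_add, add_comm m, ← hm]
            exact isLocalizationElem_pow_mul (hT1 he) ht K ha' hta
          show sec r _ _ = 0
          rw [e', map_mul]
          exact (congrArg (_ * ·) (hk ⟨e, he⟩)).trans (mul_zero _)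
      have hφz : γ U hU (t ^ K * a) = 0 := by
        show (φ.hom.app (op U)).hom (t ^ K * a) = 0
        rw [← RingHom.mem_ker, hker U hU]
        exact (mem_idealOfPieces_of_mem _ hta).mpr hmem
      apply val_injective
      rw [Away.val_mk, val_zero, Localization.mk_eq_mk', IsLocalization.mk'_eq_zero_iff]
      exact ⟨⟨_, K, rfl⟩, by rw [← hφz, map_mul, map_pow]⟩
    · intro hz
      have hz' := congrArg HomogeneousLocalization.val hz
      rw [Away.val_mk, val_zero, Localization.mk_eq_mk', IsLocalization.mk'_eq_zero_iff] at hz'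
      obtain ⟨⟨_, l, rfl⟩, hl⟩ := hz'
      have hta : t ^ l * a ∈ 𝒮.deg U hU (l + n) :=
        SetLike.mul_mem_graded (by simpa using SetLike.pow_mem_graded l ht) ha'
      have hmem : t ^ l * a ∈ eqIdeal p chart r U hU := by
        rw [← hker U hU, RingHom.mem_ker, map_mul, map_pow]
        exact hl
      obtain ⟨_, hmem'⟩ := (mem_idealOfPieces_of_mem _ hta).mp hmem
      refine Eq.trans (congrArg (sec r _) ?_) (hmem' t ht)
      ext
      simp only [Away.val_mk]
      rw [Localization.mk_eq_mk_iff, Localization.r_iff_exists]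
      exact ⟨1, by simp; ring⟩
  have heq : r.ker = h.ker := by
    let ι := Σ' (U : S.Opens) (hU : IsAffineOpen U) (t : 𝒮.presheaf.obj (op U)), t ∈ 𝒮.deg U hU 1
    let a : ∀ j : ι, _ ⟶ P := fun j => achart p chart j.1 j.2.1 j.2.2.2 one_pos
    refine Scheme.IdealSheafData.ext_of_iSup_eq_top
      (fun j : ι => ⟨(a j) ''ᵁ ⊤, (isAffineOpen_top _).image_of_isOpenImmersion (a j)⟩) (top_unique fun x _ => ?_)
      fun j => ?_
    · obtain ⟨U, hU, hxU, -⟩ := exists_isAffineOpen_mem_and_subset (x := p x) (U := ⊤) trivial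
      obtain ⟨y, hy⟩ := (RelProjK.opensRange_emb p chart U hU).ge (show x ∈ p ⁻¹ᵁ U from hxU)
      obtain ⟨⟨t, ht⟩, hyt⟩ := Opens.mem_iSup.mp
        ((iSup_basicOpen_eq_top (span_deg_one hgen U hU)).ge (Opens.mem_top y))
      rw [← Proj.opensRange_awayι (𝒮.deg U hU) t ht one_pos] at hyt
      obtain ⟨w, hw⟩ := hyt
      refine Opens.mem_iSup.mpr ⟨⟨U, hU, t, ht⟩, w, trivial, ?_⟩
      show (Proj.awayι (𝒮.deg U hU) t ht one_pos ≫ RelProj.emb p chart U hU) w = x
      rw [Scheme.Hom.comp_apply, hw, hy]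
    · have h1 := congrArg (fun I => Scheme.IdealSheafData.ideal I ⟨⊤, isAffineOpen_top _⟩)
        (hcomp j.1 j.2.1 j.2.2.1 j.2.2.2)
      simp only [Scheme.IdealSheafData.ideal_comap_of_isOpenImmersion] at h1
      exact Ideal.comap_injective_of_surjective _ (ConcreteCategory.bijective_of_isIso _).2 h1
  haveI := IsClosedImmersion.isIso_lift h r heq.symm
  exact ⟨𝒯, φ, hφ, hirr, RelProjK.proj 𝒯, q, chartT, h, asIso (IsClosedImmersion.lift h r heq.symm.le), hsurj,
    hgenT, hftT, hQ, hh, IsClosedImmersion.lift_fac _ _ _⟩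

include hP hgen in
/-- A closed subscheme of the relative Proj of a graded algebra generated by a finite type degree one part is
projective. -/
theorem isProjective_comp (hft : 𝒮.IsFTDeg 1) : RelProj.IsProjective (r ≫ p) := by
  obtain ⟨𝒯, φ, hφ, hirr, Q, q, chartT, h, e, -, hgenT, hftT, hQ, hh, he⟩ := exists_quotient_model r hP hgen hft
  exact ⟨𝒯, Q, q, chartT, e, hgenT, hftT, hQ, by rw [← RelProjK.relProjMap_comp hP hQ hh, ← Category.assoc, he]⟩

end Projective

end GrothLib.ProjQ8
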