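import Mathlib.RingTheory.GradedAlgebra.Homogeneous.Ideal
import Mathlib.RingTheory.Ideal.Quotient.Operations
import Mathlib.Algebra.DirectSum.Internal

/-!
# The grading of a quotient by a homogeneous ideal; ideals from degreewise conditions
-/

set_option autoImplicit false

universe u

open DirectSum

namespace GrothLib.ProjQ8

variable {A : Type u} [CommRing A] (𝒜 : ℕ → AddSubgroup A) [GradedRing 𝒜]

/-- The ideal of elements whose homogeneous components lie in prescribed subgroups stable under multiplication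
by homogeneous elements. -/
def idealOfPieces (K : ℕ → AddSubgroup A)
    (hmul : ∀ (m n : ℕ) (c a : A), c ∈ 𝒜 m → a ∈ 𝒜 n → a ∈ K n → c * a ∈ K (m + n)) : Ideal A where
  carrier := {a | ∀ n, (decompose 𝒜 a n : A) ∈ K n}
  zero_mem' n := by simp
  add_mem' {a b} ha hb n := by
    rw [decompose_add, DirectSum.add_apply]
    exact add_mem (ha n) (hb n)
  smul_mem' c a ha n := by
    classical
    induction c using DirectSum.Decomposition.inductionOn 𝒜 with
    | zero => simp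
    | homogeneous x =>
      rename_i m
      rw [smul_eq_mul]
      by_cases h : m ≤ n
      · rw [DirectSum.coe_decompose_mul_of_left_mem_of_le 𝒜 x.2 h]
        have := hmul m (n - m) x _ x.2 (SetLike.coe_mem _) (ha (n - m))
        rwa [Nat.add_sub_cancel' h] at this
      · rw [DirectSum.coe_decompose_mul_of_left_mem_of_not_le 𝒜 x.2 h]
        exact zero_mem _
    | add x y hx hy =>
      simp only [smul_eq_mul] at hx hy ⊢
      rw [add_mul, decompose_add, DirectSum.add_apply]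
      exact add_mem hx hy

theorem mem_idealOfPieces {K : ℕ → AddSubgroup A}
    {hmul : ∀ (m n : ℕ) (c a : A), c ∈ 𝒜 m → a ∈ 𝒜 n → a ∈ K n → c * a ∈ K (m + n)} {a : A} :
    a ∈ idealOfPieces 𝒜 K hmul ↔ ∀ n, (decompose 𝒜 a n : A) ∈ K n := Iff.rfl

theorem mem_idealOfPieces_of_mem {K : ℕ → AddSubgroup A}
    {hmul : ∀ (m n : ℕ) (c a : A), c ∈ 𝒜 m → a ∈ 𝒜 n → a ∈ K n → c * a ∈ K (m + n)} {n : ℕ} {a : A}
    (ha : a ∈ 𝒜 n) : a ∈ idealOfPieces 𝒜 K hmul ↔ a ∈ K n := by
  rw [mem_idealOfPieces]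
  refine ⟨fun h => by simpa [decompose_of_mem_same 𝒜 ha] using h n, fun h m => ?_⟩
  rcases eq_or_ne n m with rfl | hne
  · rwa [decompose_of_mem_same 𝒜 ha]
  · rw [decompose_of_mem_ne 𝒜 ha hne]
    exact zero_mem _

theorem idealOfPieces_isHomogeneous (K : ℕ → AddSubgroup A)
    (hmul : ∀ (m n : ℕ) (c a : A), c ∈ 𝒜 m → a ∈ 𝒜 n → a ∈ K n → c * a ∈ K (m + n)) :
    (idealOfPieces 𝒜 K hmul).IsHomogeneous 𝒜 := fun i a ha => by
  exact (mem_idealOfPieces_of_mem 𝒜 (SetLike.coe_mem _)).mpr (ha i)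

variable (I : Ideal A)

/-- The homogeneous parts of a quotient. -/
def quotDeg (n : ℕ) : AddSubgroup (A ⧸ I) := (𝒜 n).map (Ideal.Quotient.mk I).toAddMonoidHom

theorem mk_mem_quotDeg {n : ℕ} {a : A} (ha : a ∈ 𝒜 n) : Ideal.Quotient.mk I a ∈ quotDeg 𝒜 I n := ⟨a, ha, rfl⟩

theorem quotDeg_gradedMonoid : SetLike.GradedMonoid (quotDeg 𝒜 I) where
  one_mem := ⟨1, SetLike.GradedOne.one_mem, map_one (Ideal.Quotient.mk I)⟩
  mul_mem := by
    rintro i j _ _ ⟨a, ha, rfl⟩ ⟨b, hb, rfl⟩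
    exact ⟨a * b, SetLike.mul_mem_graded ha hb, map_mul (Ideal.Quotient.mk I) a b⟩

variable {I}

theorem isInternal_quotDeg (hI : I.IsHomogeneous 𝒜) : DirectSum.IsInternal (quotDeg 𝒜 I) := by
  classical
  let ε : (DirectSum ℕ fun i => 𝒜 i) →+ DirectSum ℕ fun i => quotDeg 𝒜 I i :=
    DirectSum.map fun i => AddMonoidHom.mk' (fun a => ⟨Ideal.Quotient.mk I a.1, mk_mem_quotDeg 𝒜 I a.2⟩)
      (fun a b => Subtype.ext (map_add _ _ _))
  have hεs : Function.Surjective ε := (DirectSum.map_surjective _).mpr fun i => by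
    rintro ⟨_, a, ha, rfl⟩
    exact ⟨⟨a, ha⟩, rfl⟩
  have hcomp : (DirectSum.coeAddMonoidHom (quotDeg 𝒜 I)).comp ε =
      (Ideal.Quotient.mk I).toAddMonoidHom.comp (DirectSum.coeAddMonoidHom 𝒜) :=
    DirectSum.addHom_ext fun i a => by simp [ε]
  have hc : ∀ x, DirectSum.coeAddMonoidHom (quotDeg 𝒜 I) (ε x) =
      Ideal.Quotient.mk I (DirectSum.coeAddMonoidHom 𝒜 x) := fun x => DFunLike.congr_fun hcomp x
  refine ⟨fun x y hxy => ?_, fun q => ?_⟩
  · obtain ⟨a, rfl⟩ := hεs x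
    obtain ⟨b, rfl⟩ := hεs y
    rw [hc, hc, Ideal.Quotient.eq, ← map_sub] at hxy
    refine DFinsupp.ext fun n => Subtype.ext ?_
    show Ideal.Quotient.mk I (a n : A) = Ideal.Quotient.mk I (b n : A)
    rw [Ideal.Quotient.eq]
    have h := hI n hxy
    rw [show DirectSum.coeAddMonoidHom 𝒜 (a - b) = (decompose 𝒜).symm (a - b) from rfl,
      Equiv.apply_symm_apply] at h
    exact h
  · obtain ⟨a, rfl⟩ := Ideal.Quotient.mk_surjective q
    refine ⟨ε (decompose 𝒜 a), (hc _).trans (congrArg _ ?_)⟩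
    exact (decompose 𝒜).symm_apply_apply a

/-- The graded ring structure on a quotient by a homogeneous ideal. -/
@[implicit_reducible]
noncomputable def quotGraded (hI : I.IsHomogeneous 𝒜) : GradedRing (quotDeg 𝒜 I) :=
  letI := (isInternal_quotDeg 𝒜 hI).chooseDecomposition
  { quotDeg_gradedMonoid 𝒜 I, ‹DirectSum.Decomposition (quotDeg 𝒜 I)› with }

end GrothLib.ProjQ8
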