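import Mathlib.AlgebraicGeometry.IdealSheaf.Functorial
import Mathlib.AlgebraicGeometry.Morphisms.ClosedImmersion
import Mathlib.AlgebraicGeometry.Pullbacks
import Mathlib.AlgebraicGeometry.PullbackCarrier
import Mathlib.RingTheory.Localization.Away.Basic

/-!
# Functions on the part of a closed subscheme lying in an affine chart
-/

set_option autoImplicit false
set_option backward.isDefEq.respectTransparency false

universe u

open CategoryTheory CategoryTheory.Limits AlgebraicGeometry TopologicalSpace Opposite

noncomputable section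

namespace GrothLib.ProjQ8

variable {X P : Scheme.{u}} (i : X ⟶ P) [IsClosedImmersion i] {R R' : CommRingCat.{u}} (a : Spec R ⟶ P)

/-- Functions of the chart restricted to the closed subscheme. -/
def sec : R →+* Γ(pullback i a, ⊤) :=
  ((Scheme.ΓSpecIso R).inv ≫ (pullback.snd i a).appTop).hom

theorem sec_surjective : Function.Surjective (sec i a) := by
  haveI : IsClosedImmersion (pullback.snd i a) := inferInstance
  exact ((pullback.snd i a).app_surjective ⊤ (isAffineOpen_top _)).comp
    (ConcreteCategory.bijective_of_isIso (Scheme.ΓSpecIso R).inv).2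

variable {i a} (f : R ⟶ R') {a' : Spec R' ⟶ P} (h : Spec.map f ≫ a = a')

/-- The change of chart. -/
def secMap : pullback i a' ⟶ pullback i a :=
  pullback.lift (pullback.fst i a') (pullback.snd i a' ≫ Spec.map f) (by rw [Category.assoc, h, pullback.condition])

theorem secMap_snd : secMap f h ≫ pullback.snd i a = pullback.snd i a' ≫ Spec.map f := pullback.lift_snd _ _ _

theorem secMap_sec (x : R) : (secMap f h).appTop.hom (sec i a x) = sec i a' (f.hom x) := by
  have key : (Scheme.ΓSpecIso R).inv ≫ (secMap f h ≫ pullback.snd i a).appTop =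
      f ≫ (Scheme.ΓSpecIso R').inv ≫ (pullback.snd i a').appTop := by
    rw [secMap_snd, Scheme.Hom.comp_appTop, ← Category.assoc, ← Scheme.ΓSpecIso_inv_naturality, Category.assoc]
  exact ConcreteCategory.congr_hom key x

theorem isPullback_secMap : IsPullback (secMap f h) (pullback.snd i a') (pullback.snd i a) (Spec.map f) := by
  refine IsPullback.of_right ?_ (secMap_snd f h) (IsPullback.of_hasPullback i a)
  rw [show secMap f h ≫ pullback.fst i a = pullback.fst i a' from pullback.lift_fst _ _ _, h]
  exact IsPullback.of_hasPullback i a'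

theorem isOpenImmersion_secMap [IsOpenImmersion (Spec.map f)] : IsOpenImmersion (secMap (i := i) f h) :=
  MorphismProperty.of_isPullback (isPullback_secMap f h).flip inferInstance

theorem range_secMap [IsOpenImmersion (Spec.map f)] :
    Set.range (secMap (i := i) f h) = pullback.snd i a ⁻¹' Set.range (Spec.map f) := by
  have H := isPullback_secMap (i := i) f h
  rw [← H.isoPullback_hom_fst, Scheme.Hom.comp_base, TopCat.coe_comp, Set.range_comp,
    show Set.range H.isoPullback.hom = Set.univ from Set.range_eq_univ.mpr H.isoPullback.hom.homeomorph.surjective,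
    Set.image_univ, Scheme.Pullback.range_fst]

/-- A function vanishing on an open cover of the chart vanishes. -/
theorem eq_zero_of_cover {ι : Type u} {Z : Scheme.{u}} {T : ι → Scheme.{u}} (m : ∀ j, T j ⟶ Z)
    [∀ j, IsOpenImmersion (m j)] (hcov : ∀ z : Z, ∃ j, z ∈ Set.range (m j)) (x : Γ(Z, ⊤))
    (hx : ∀ j, (m j).appTop.hom x = 0) : x = 0 := by
  refine Z.sheaf.eq_of_locally_eq' (fun j => (m j).opensRange) ⊤ (fun j => homOfLE le_top)
    (fun z _ => Opens.mem_iSup.mpr (hcov z)) _ _ fun j => ?_
  show (Z.presheaf.map (homOfLE le_top).op).hom x = (Z.presheaf.map (homOfLE le_top).op).hom 0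
  rw [map_zero]
  haveI : IsIso ((m j).app (m j).opensRange) := (m j).isIso_app _ le_rfl
  refine (ConcreteCategory.bijective_of_isIso ((m j).app (m j).opensRange)).1 ?_
  rw [map_zero, ← CommRingCat.comp_apply, (m j).naturality, CommRingCat.comp_apply]
  show ((T j).presheaf.map _).hom ((m j).appTop.hom x) = 0
  rw [hx, map_zero]

include h in
/-- A function vanishing on a basic open of the chart is killed by a power of its equation. -/
theorem exists_pow_kill (c : R) [IsOpenImmersion (Spec.map f)]
    (hr : Set.range (Spec.map f) = (PrimeSpectrum.basicOpen c : Set (PrimeSpectrum R)))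
    (x : R) (hx : sec i a' (f.hom x) = 0) : ∃ k : ℕ, sec i a (c ^ k * x) = 0 := by
  let Z := pullback i a
  have hZ : IsAffine Z := isAffine_of_isAffineHom (pullback.snd i a)
  haveI := isOpenImmersion_secMap (i := i) f h
  let m := secMap (i := i) f h
  have hrange : m.opensRange = Z.basicOpen (sec i a c) := by
    apply TopologicalSpace.Opens.ext
    rw [Scheme.Hom.coe_opensRange]
    refine (range_secMap f h).trans ?_
    rw [hr]
    show ((pullback.snd i a) ⁻¹ᵁ PrimeSpectrum.basicOpen c : Set Z) = _
    rw [← basicOpen_eq_of_affine c]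
    exact congrArg (fun O : Z.Opens => (O : Set Z))
      (Scheme.preimage_basicOpen (pullback.snd i a) ((Scheme.ΓSpecIso R).inv c))
  obtain ⟨k, hk⟩ := exists_pow_mul_eq_zero_of_res_basicOpen_eq_zero_of_isCompact Z (U := ⊤)
    (isAffineOpen_top Z).isCompact (sec i a x) (sec i a c) (by
      have h0 : (Z.presheaf.map (homOfLE (le_top : m.opensRange ≤ ⊤)).op).hom (sec i a x) = 0 := by
        haveI : IsIso (m.app m.opensRange) := m.isIso_app _ le_rfl
        refine (ConcreteCategory.bijective_of_isIso (m.app m.opensRange)).1 ?_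
        rw [map_zero, ← CommRingCat.comp_apply, m.naturality, CommRingCat.comp_apply]
        show ((pullback i a').presheaf.map _).hom ((secMap f h).appTop.hom (sec i a x)) = 0
        rw [secMap_sec, hx, map_zero]
      have : ∀ (O : Z.Opens) (hO : O = m.opensRange), (Z.presheaf.map (homOfLE (le_top : O ≤ ⊤)).op).hom (sec i a x) = 0 := by
        rintro O rfl
        exact h0
      exact this _ hrange.symm)
  exact ⟨k, by rw [map_mul, map_pow]; exact hk⟩

/-- Two closed subschemes with the same equations on a chart have the same ideal there. -/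
theorem comap_ker_eq {T : Scheme.{u}} (j : T ⟶ P) [IsClosedImmersion j] {q : Spec R' ⟶ T}
    (H : IsPullback q (Spec.map f) j a) (hs : RingHom.ker (sec i a) = RingHom.ker f.hom) :
    i.ker.comap a = j.ker.comap a := by
  rw [← Scheme.IdealSheafData.ker_fst_of_isClosedImmersion i a,
    ← Scheme.IdealSheafData.ker_fst_of_isClosedImmersion j a]
  have e1 : (pullback.fst a i).ker = (pullback.snd i a).ker := by
    rw [← pullbackSymmetry_hom_comp_snd, Scheme.Hom.ker_comp_of_isIso]
  have e2 : (pullback.fst a j).ker = (Spec.map f).ker := by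
    rw [← H.flip.isoPullback_hom_fst, Scheme.Hom.ker_comp_of_isIso]
  rw [e1, e2, Scheme.ker_of_isAffine, Scheme.ker_of_isAffine]
  congr 1
  ext y
  obtain ⟨x, rfl⟩ := (ConcreteCategory.bijective_of_isIso (Scheme.ΓSpecIso R).inv).2 y
  rw [RingHom.mem_ker, RingHom.mem_ker]
  show sec i a x = 0 ↔ ((Scheme.ΓSpecIso R).inv ≫ (Spec.map f).appTop).hom x = 0
  rw [← Scheme.ΓSpecIso_inv_naturality, CommRingCat.comp_apply,
    map_eq_zero_iff _ (ConcreteCategory.bijective_of_isIso (Scheme.ΓSpecIso R').inv).1, ← RingHom.mem_ker,
    ← RingHom.mem_ker, hs]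

end GrothLib.ProjQ8
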